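import Groth.Agent.Zeta24.PicDiv
import Groth.Agent.DivCurve29.Cartier
import Groth.Agent.Inters29.PullIdeal
import Groth.Agent.GenSmoothLib.OmegaFree
import Groth.Agent.AbDualLib.PicZeroMul
import Groth.Agent.AbVarLib.GeomIntegralSmooth
import Groth.Agent.CurveRR24.SmoothCompletion
import Groth.Agent.FBaseLib.Geom
import Groth.Agent.FF.LinSys

/-!
# On a smooth proper connected curve, invertible modules of degree zero are algebraically equivalent to zero
-/

set_option autoImplicit false
set_option linter.style.haveILetI false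
set_option backward.isDefEq.respectTransparency.types false

universe u

open CategoryTheory CategoryTheory.Limits AlgebraicGeometry
open Groth.Agent.PicLib Groth.Agent.EulerLib Groth.Agent.AmpleLib

namespace Groth.Agent.PicTau27

section Points

variable {k : Type u} [Field k] {C : Scheme.{u}} [C.Over (Spec (CommRingCat.of k))]
  [IsSeparated (C ↘ Spec (CommRingCat.of k))]

local notation "q" => C ↘ Spec (CommRingCat.of k)

theorem sliceAt_fst (P : Spec (CommRingCat.of k) ⟶ C) (hP : P ≫ q = 𝟙 _) :
    Pic13.sliceAt k C q P hP ≫ pullback.fst q q = 𝟙 C := pullback.lift_fst _ _ _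

theorem sliceAt_snd (P : Spec (CommRingCat.of k) ⟶ C) (hP : P ≫ q = 𝟙 _) :
    Pic13.sliceAt k C q P hP ≫ pullback.snd q q = q ≫ P := pullback.lift_snd _ _ _

/-- The slice at a point meets the diagonal in that point. -/
theorem isPullback_sliceAt_diagonal (P : Spec (CommRingCat.of k) ⟶ C) (hP : P ≫ q = 𝟙 _) :
    IsPullback P P (Pic13.sliceAt k C q P hP) (pullback.diagonal q) := by
  have w : P ≫ Pic13.sliceAt k C q P hP = P ≫ pullback.diagonal q := by
    apply pullback.hom_ext
    · rw [Category.assoc, Category.assoc, sliceAt_fst, pullback.diagonal_fst]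
    · rw [Category.assoc, Category.assoc, sliceAt_snd, pullback.diagonal_snd, reassoc_of% hP, Category.comp_id]
  have hfst : ∀ s : PullbackCone (Pic13.sliceAt k C q P hP) (pullback.diagonal q),
      s.fst = s.snd ∧ s.fst ≫ q ≫ P = s.snd := fun s => by
    refine ⟨?_, ?_⟩
    · have h := congrArg (fun m => m ≫ pullback.fst q q) s.condition
      simp only [Category.assoc, pullback.diagonal_fst, Category.comp_id] at h
      rwa [sliceAt_fst, Category.comp_id] at h
    · have h := congrArg (fun m => m ≫ pullback.snd q q) s.condition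
      simp only [Category.assoc, pullback.diagonal_snd, Category.comp_id] at h
      rwa [sliceAt_snd] at h
  refine IsPullback.of_isLimit' ⟨w⟩ (PullbackCone.IsLimit.mk _ (fun s => s.fst ≫ q) (fun s => ?_) (fun s => ?_)
    fun s m h1 _ => ?_)
  · rw [Category.assoc, (hfst s).2, ← (hfst s).1]
  · rw [Category.assoc, (hfst s).2]
  · rw [← h1, Category.assoc, hP, Category.comp_id]

/-- The ideal of a point is the restriction of the ideal of the diagonal. -/
theorem comap_ker_diagonal (P : Spec (CommRingCat.of k) ⟶ C) (hP : P ≫ q = 𝟙 _) :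
    (pullback.diagonal q).ker.comap (Pic13.sliceAt k C q P hP) = P.ker := by
  have h := isPullback_sliceAt_diagonal P hP
  refine (Scheme.IdealSheafData.ker_fst_of_isClosedImmersion _ _).symm.trans ?_
  conv_rhs => rw [← h.isoPullback_hom_fst]
  rw [Scheme.Hom.ker_comp_of_isIso]

variable [SmoothOfRelativeDimension 1 (C ↘ Spec (CommRingCat.of k))]

/-- Rational points are effective Cartier. -/
theorem isEffCartier_point (P : Spec (CommRingCat.of k) ⟶ C) (hP : P ≫ q = 𝟙 _) :
    BlowUp.IsEffCartierIdeal P.ker := by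
  haveI : IsClosedImmersion (P ≫ q) := by rw [hP]; infer_instance
  haveI : IsClosedImmersion P := IsClosedImmersion.of_comp P q
  refine DivCurve29.isEffCartier q P.ker ?_
  have e : P.ker.subschemeι ≫ q = inv P.toImage := by
    apply (cancel_epi P.toImage).1
    rw [← Category.assoc]
    simp [hP]
  rw [e]
  exact ⟨inferInstance, inferInstance, inferInstance⟩

/-- The diagonal of a smooth curve is effective Cartier. -/
theorem isEffCartier_diagonal : BlowUp.IsEffCartierIdeal (pullback.diagonal q).ker := by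
  haveI := smoothOfRelativeDimension_isStableUnderBaseChange.{u} 1
  haveI : SmoothOfRelativeDimension 1 (pullback.snd q q) :=
    MorphismProperty.pullback_snd (P := @SmoothOfRelativeDimension 1) _ _ ‹_›
  refine DivCurve29.isEffCartier (pullback.snd q q) _ ?_
  have e : (pullback.diagonal q).ker.subschemeι ≫ pullback.snd q q = inv (pullback.diagonal q).toImage := by
    apply (cancel_epi (pullback.diagonal q).toImage).1
    rw [← Category.assoc]
    simp
  rw [e]
  exact ⟨inferInstance, inferInstance, inferInstance⟩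

theorem isInvertible_point (P : Spec (CommRingCat.of k) ⟶ C) (hP : P ≫ q = 𝟙 _) :
    PicF.IsInvertible (ClSub.idealMod P.ker) :=
  FlatMor12.IdealModGen.isInvertible_idealMod _ (isEffCartier_point P hP)

/-- `I_Q ⊗ I_P⁻¹` is algebraically equivalent to zero. -/
theorem isAlgEquivZero_point_tensor [ConnectedSpace C] [IsProper q] (P Q : Spec (CommRingCat.of k) ⟶ C)
    (hP : P ≫ q = 𝟙 _) (hQ : Q ≫ q = 𝟙 _) (N : C.Modules) (hN : PicF.IsInvertible N)
    (hinv : Nonempty (CohB1.tensorMod (ClSub.idealMod P.ker) N ≅ Coh.structureModule C)) :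
    Pic13.IsAlgEquivZero k C (CohB1.tensorMod (ClSub.idealMod Q.ker) N) := by
  let D := ClSub.idealMod (pullback.diagonal q).ker
  have hD : PicF.IsInvertible D := FlatMor12.IdealModGen.isInvertible_idealMod _ isEffCartier_diagonal
  let N' := (Scheme.Modules.pullback (pullback.fst q q)).obj N
  have hN' : PicF.IsInvertible N' := PicLoc.isInvertible_pullback _ hN
  have key : ∀ (R : Spec (CommRingCat.of k) ⟶ C) (hR : R ≫ q = 𝟙 _),
      Nonempty (Pic13.fibreMod k C q R hR (CohB1.tensorMod D N') ≅ CohB1.tensorMod (ClSub.idealMod R.ker) N) := by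
    intro R hR
    have hI := isInvertible_point R hR
    refine (PicM.of_eq_iff (PicLoc.isInvertible_pullback _ (isInvertible_tensorMod hD hN'))
      (isInvertible_tensorMod hI hN)).1 ?_
    rw [← PicM.pull_of _ (isInvertible_tensorMod hD hN'), ← PicM.of_mul hD hN', ← PicM.of_mul hI hN, map_mul,
      ← PicM.pull_of (pullback.fst q q) hN, PicM.pull_pull]
    congr 1
    · rw [PicM.pull_of _ hD, PicM.of_eq_iff]
      obtain ⟨e⟩ := Inters29.nonempty_pullback_idealMod_iso (Pic13.sliceAt k C q R hR) (pullback.diagonal q).ker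
        isEffCartier_diagonal (by rw [comap_ker_diagonal R hR]; exact isEffCartier_point R hR)
      exact ⟨e ≪≫ eqToIso (by rw [comap_ker_diagonal R hR])⟩
    · rw [show Pic13.sliceAt k C q R hR ≫ pullback.fst q q = 𝟙 C from pullback.lift_fst _ _ _, PicM.pull_id]
  obtain ⟨eQ⟩ := key Q hQ
  obtain ⟨eP⟩ := key P hP
  exact ⟨C, q, inferInstance, inferInstance, inferInstance, _, isInvertible_tensorMod hD hN', Q, P, hQ, hP,
    ⟨eQ⟩, ⟨eP ≪≫ hinv.some⟩⟩

end Points

section Degree

variable (k : Type u) [Field k] [IsAlgClosed k] (C : Scheme.{u}) [C.Over (Spec (CommRingCat.of k))]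
  [IsProper (C ↘ Spec (CommRingCat.of k))] [Smooth (C ↘ Spec (CommRingCat.of k))] [IsIntegral C]

/-- Classes algebraically equivalent to zero. -/
def AlgZero (c : InvCl C) : Prop :=
  ∃ (L : C.Modules) (hL : PicF.IsInvertible L), InvCl.mk L hL = c ∧ Pic13.IsAlgEquivZero k C L

variable {k C}

theorem AlgZero.mul {c d : InvCl C} (h : AlgZero k C c) (h' : AlgZero k C d) : AlgZero k C (c * d) := by
  obtain ⟨L, hL, rfl, a⟩ := h
  obtain ⟨M, hM, rfl, b⟩ := h'
  exact ⟨_, isInvertible_tensorMod hL hM, rfl, AbDualLib.isAlgEquivZero_tensorMod hL hM a b⟩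

theorem AlgZero.of_class {c : InvCl C} (h : AlgZero k C c) {L : C.Modules} {hL : PicF.IsInvertible L}
    (e : InvCl.mk L hL = c) : Pic13.IsAlgEquivZero k C L := by
  obtain ⟨M, hM, hc, a⟩ := h
  exact AbDualLib.isAlgEquivZero_congr (Quotient.exact (hc.trans e.symm) : Nonempty (M ≅ L)).some a

/-- Invertible modules of degree zero are algebraically equivalent to zero. -/
theorem isAlgEquivZero_of_deg_eq_zero (hdim : topologicalKrullDim C = 1) {L : C.Modules}
    (hL : PicF.IsInvertible L) (h0 : Curv2.deg k C L 1 = 0) : Pic13.IsAlgEquivZero k C L := by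
  classical
  haveI := GenSmoothLib.smoothOfRelativeDimension_toField (C ↘ Spec (CommRingCat.of k)) (d := 1)
    (by rw [hdim]; rfl)
  haveI := CurveRR24.isLocallyNoetherian_of_proper k (X := C)
  letI := Curv2.stalkAlgebra k C (genericPoint C)
  haveI := FBaseLib.geometricallyIrreducible_of_isAlgClosed (C ↘ Spec (CommRingCat.of k))
  have hK := Zeta24.isFunctionField (k := k) hdim (hc := rfl)
  haveI : JacobsonSpace ↥C := LocallyOfFiniteType.jacobsonSpace (C ↘ Spec (CommRingCat.of k))
  obtain ⟨x₀, -, hx₀⟩ := nonempty_inter_closedPoints (X := ↥C) (Z := Set.univ) Set.univ_nonempty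
    isClosed_univ.isLocallyClosed
  let pt : {x : C // IsClosed ({x} : Set C)} → (Spec (CommRingCat.of k) ⟶ C) := fun x =>
    pointOfClosedPoint (C ↘ Spec (CommRingCat.of k)) x.1 x.2
  have hpt : ∀ x, pt x ≫ (C ↘ Spec (CommRingCat.of k)) = 𝟙 _ := fun x => pointOfClosedPoint_comp _ _ _
  have hker : ∀ x, (pt x).ker = CurveRR24.ptIdeal x.1 x.2 := fun x => by
    show Scheme.Hom.ker (Spec.map _ ≫ _) = _
    rw [Scheme.Hom.ker_comp_of_isIso, CurveRR24.ker_fromSpecResidueField']
  have hI : ∀ x : {x : C // IsClosed ({x} : Set C)}, PicF.IsInvertible (ClSub.idealMod (CurveRR24.ptIdeal x.1 x.2)) :=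
    fun x => haveI := Zeta24.isDVR_stalk k hdim x.2; CurveRR24.isInvertible_ptIdeal_of_dvr x.2
  let b : {x : C // IsClosed ({x} : Set C)} → InvCl C := fun x => InvCl.mk _ (hI x)
  have hswap : ∀ x y, ∀ a : InvCl C, b y * a = 1 → AlgZero k C (b x * a) := fun x y a ha => by
    obtain ⟨N, hN, rfl⟩ := InvCl.exists_rep a
    have he : Nonempty (CohB1.tensorMod (ClSub.idealMod (pt y).ker) N ≅ Coh.structureModule C) := by
      rw [hker]; exact (Quotient.exact ha : Nonempty _)
    have := isAlgEquivZero_point_tensor (pt y) (pt x) (hpt y) (hpt x) N hN he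
    rw [hker] at this
    exact ⟨_, isInvertible_tensorMod (hI x) hN, rfl, this⟩
  have hbdeg : ∀ x, Zeta24.degCl k (b x) = -1 := fun x => by
    obtain ⟨l, h1, h2⟩ := Zeta24.exists_class_of_divCl hdim rfl hK (Zeta24.divCl hdim rfl hK (b x))
    rw [← Zeta24.divCl_injective hdim rfl hK h1, h2, Zeta24.divCl_ptIdeal hdim rfl hK x (hI x), map_neg,
      FF.clDeg_mk, FF.deg_single, FF.deg_eq_one hK]
    norm_num
  have hone : AlgZero k C 1 := by
    obtain ⟨a, ha⟩ := Zeta24.exists_mul_eq_one k (b ⟨x₀, hx₀⟩)
    simpa [ha] using hswap ⟨x₀, hx₀⟩ ⟨x₀, hx₀⟩ a ha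
  let U : InvCl C → InvCl C → Prop := fun c c' => c * c' = 1
  -- classes which differ from a multiple of the base point by a class algebraically equivalent to zero
  let S : Submonoid (InvCl C) :=
    { carrier := {c | ∀ (n m : ℕ), Zeta24.degCl k c = (n : ℤ) - m → ∀ a, b ⟨x₀, hx₀⟩ * a = 1 →
        AlgZero k C (c * b ⟨x₀, hx₀⟩ ^ n * a ^ m)}
      one_mem' := fun n m h a ha => by
        rw [show Zeta24.degCl k (1 : InvCl C) = 0 from CurveRR24.deg_structure k] at h
        obtain rfl : n = m := by omega
        rw [one_mul, ← mul_pow, ha, one_pow]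
        exact hone
      mul_mem' := by
        intro c d hc hd n m h a ha
        rw [Zeta24.degCl_mul k hdim.le] at h
        have e1 := hc (Zeta24.degCl k c).toNat (-Zeta24.degCl k c).toNat (by omega) a ha
        have e2 := hd (Zeta24.degCl k d).toNat (-Zeta24.degCl k d).toNat (by omega) a ha
        set p := b ⟨x₀, hx₀⟩
        set N := (Zeta24.degCl k c).toNat + (Zeta24.degCl k d).toNat
        set M := (-Zeta24.degCl k c).toNat + (-Zeta24.degCl k d).toNat
        have hNM : N + m = n + M := by omega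
        have e : c * d * p ^ n * a ^ m = (c * p ^ (Zeta24.degCl k c).toNat * a ^ (-Zeta24.degCl k c).toNat) *
            (d * p ^ (Zeta24.degCl k d).toNat * a ^ (-Zeta24.degCl k d).toNat) :=
          calc c * d * p ^ n * a ^ m = c * d * p ^ n * a ^ m * (p * a) ^ M := by rw [ha, one_pow, mul_one]
            _ = c * d * (p ^ (n + M) * a ^ (m + M)) := by simp only [mul_pow, pow_add]; ac_rfl
            _ = c * d * (p ^ (N + m) * a ^ (M + m)) := by rw [hNM, add_comm m M]
            _ = c * d * p ^ N * a ^ M * (p * a) ^ m := by simp only [mul_pow, pow_add]; ac_rfl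
            _ = _ := by rw [ha, one_pow, mul_one]; simp only [N, M, pow_add]; ac_rfl
        rw [e]
        exact e1.mul e2 }
  have hb : ∀ x, b x ∈ S ∧ ∀ a, b x * a = 1 → a ∈ S := by
    intro x
    obtain ⟨a', ha'⟩ := Zeta24.exists_mul_eq_one k (b x)
    refine ⟨fun n m h a ha => ?_, fun a₁ ha₁ n m h a ha => ?_⟩
    · rw [hbdeg] at h
      obtain rfl : m = n + 1 := by omega
      rw [pow_succ, mul_assoc, ← mul_assoc (b ⟨x₀, hx₀⟩ ^ n), ← mul_pow, ha, one_pow, one_mul]
      exact hswap x _ a ha
    · have h1 : Zeta24.degCl k a₁ = 1 := by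
        have := congrArg (Zeta24.degCl k) ha₁
        rw [Zeta24.degCl_mul k hdim.le, hbdeg, show Zeta24.degCl k (1 : InvCl C) = 0 from CurveRR24.deg_structure k]
          at this
        omega
      rw [h1] at h
      obtain rfl : n = m + 1 := by omega
      rw [pow_succ, mul_comm (b _ ^ m), ← mul_assoc, mul_assoc (a₁ * _), ← mul_pow, ha, one_pow, mul_one, mul_comm]
      exact hswap _ x a₁ ha₁
  have hall : ∀ (D : FunFld.Divisor k C.functionField) (c : InvCl C),
      Zeta24.divCl hdim rfl hK c = QuotientAddGroup.mk D → c ∈ S := by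
    intro D
    induction D using Finsupp.induction_linear with
    | zero =>
      intro c hc
      rw [Zeta24.divCl_injective hdim rfl hK (hc.trans (Zeta24.divCl_one hdim rfl hK).symm)]
      exact S.one_mem
    | add f g hf hg =>
      intro c hc
      obtain ⟨l, hl, -⟩ := Zeta24.exists_class_of_divCl hdim rfl hK (QuotientAddGroup.mk f)
      obtain ⟨l', hl', -⟩ := Zeta24.exists_class_of_divCl hdim rfl hK (QuotientAddGroup.mk g)
      have he : c = l * l' :=
        Zeta24.divCl_injective hdim rfl hK (by rw [hc, Zeta24.divCl_mul, hl, hl']; rfl)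
      rw [he]
      exact S.mul_mem (hf l hl) (hg l' hl')
    | single P n =>
      intro c hc
      obtain ⟨x, rfl⟩ := (Zeta24.placeOf_bijective hdim rfl hK).2 P
      obtain ⟨a, ha⟩ := Zeta24.exists_mul_eq_one k (b x)
      have hpow : ∀ (t : InvCl C) (j : ℕ), Zeta24.divCl hdim rfl hK (t ^ j) = (j : ℤ) • Zeta24.divCl hdim rfl hK t :=
        fun t j => by
          induction j with
          | zero => simp [Zeta24.divCl_one]
          | succ j ih => rw [pow_succ, Zeta24.divCl_mul, ih, Nat.cast_succ, add_zsmul, one_zsmul]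
      have hb1 := Zeta24.divCl_ptIdeal hdim rfl hK x (hI x)
      have ha1 : Zeta24.divCl hdim rfl hK a =
          QuotientAddGroup.mk (Finsupp.single (Zeta24.placeOf hdim rfl hK x) (1 : ℤ)) := by
        have := congrArg (Zeta24.divCl hdim rfl hK) ha
        rw [Zeta24.divCl_mul, Zeta24.divCl_one, hb1, neg_add_eq_zero] at this
        exact this.symm
      have e : c = b x ^ (-n).toNat * a ^ n.toNat := by
        apply Zeta24.divCl_injective hdim rfl hK
        rw [hc, Zeta24.divCl_mul, hpow, hpow, hb1, ha1]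
        rw [zsmul_neg, ← neg_zsmul, ← add_zsmul, show -((-n).toNat : ℤ) + (n.toNat : ℤ) = n by omega,
          ← QuotientAddGroup.mk_zsmul]
        congr 1
        rw [Finsupp.smul_single, smul_eq_mul, mul_one]
      rw [e]
      exact S.mul_mem (S.pow_mem (hb x).1 _) (S.pow_mem ((hb x).2 a ha) _)
  obtain ⟨D, hD⟩ := QuotientAddGroup.mk_surjective (Zeta24.divCl hdim rfl hK (InvCl.mk L hL))
  obtain ⟨a, ha⟩ := Zeta24.exists_mul_eq_one k (b ⟨x₀, hx₀⟩)
  have := hall D _ hD.symm 0 0 (by rw [Zeta24.degCl_mk, h0]; rfl) a ha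
  rw [pow_zero, pow_zero, mul_one, mul_one] at this
  exact this.of_class rfl

end Degree

end Groth.Agent.PicTau27
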