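import Groth.Agent.CAlgH3.PSheafGen
import Groth.Agent.Desc19b.GGFpqc
import Groth.Agent.DCat.ClosedPush
import Groth.Agent.SerreDual.PushEquiv
import Groth.Agent.CurveRR24.RR
import Groth.Agent.NumSec27.Projective
import Groth.Agent.Quot8.FibreVanish
import Groth.Agent.Quot8.Twist
import Groth.Agent.S3224

/-!
# Regular modules on closed subschemes of projective space, and presentations by twists
-/

set_option autoImplicit false
set_option linter.style.haveILetI false
set_option linter.unusedSectionVars false
set_option backward.isDefEq.respectTransparency.types false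

universe u

open CategoryTheory CategoryTheory.Limits AlgebraicGeometry TopologicalSpace Opposite
open Groth.Agent.Coherent Groth.Agent.AmpleLib Groth.Agent.PicLib

noncomputable section

namespace Groth.Agent.PicTau27

variable (k : Type u) [Field k] {n : ℕ} {X : Scheme.{u}} (i : X ⟶ CohB1.ProjSpace n k) [IsClosedImmersion i]

/-- The projection formula along the embedding. -/
def pushTwistIso (F : X.Modules) (d : ℤ) :
    CohB1.tensorMod ((Scheme.Modules.pushforward i).obj F) (Twist.twistProjSpace n k d) ≅
      (Scheme.Modules.pushforward i).obj (Pic13.twistOn k i F d) :=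
  @asIso _ _ _ _ (DCat.ClosedPush.projMap i F (Twist.twistProjSpace n k d))
    (DCat.ClosedPush.isIso_projMap i _ _)

theorem isInvertible_twist (d : ℤ) :
    PicF.IsInvertible ((Scheme.Modules.pullback i).obj (Twist.twistProjSpace n k d)) :=
  PicLoc.isInvertible_pullback i (CAlgH3.PSheafGen.isInvertible_twistProj d)

include k i in
theorem isLocallyNoetherian_dom : IsLocallyNoetherian X := by
  haveI := Coherent.isProper_projSpace_toSpec n k
  exact LocallyOfFiniteType.isLocallyNoetherian (i ≫ CohB1.ProjSpace.toSpec n k)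

theorem isCoh_twistOn {F : X.Modules} (hF : Coh.IsCoh F) (d : ℤ) : Coh.IsCoh (Pic13.twistOn k i F d) :=
  haveI := isLocallyNoetherian_dom k i
  EulerLib.isCoh_twist (isInvertible_twist k i d) hF

theorem subsingleton_push_iff {F : X.Modules} (hF : Coh.IsCoh F) (d : ℤ) (q : ℕ) :
    Subsingleton (Coh.HH (CohB1.ProjSpace n k)
      (CohB1.tensorMod ((Scheme.Modules.pushforward i).obj F) (Twist.twistProjSpace n k d)) q) ↔
      Subsingleton (Coh.HH X (Pic13.twistOn k i F d) q) := by
  haveI := (isCoh_twistOn k i hF d).1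
  refine Iff.trans ⟨fun h => CurveRR24.subsingleton_HH_congr (pushTwistIso k i F d) q h,
    fun h => CurveRR24.subsingleton_HH_congr (pushTwistIso k i F d).symm q h⟩ ?_
  exact (Coherent.HHAffinePushEquiv i (Pic13.twistOn k i F d) q).toEquiv.subsingleton_congr.symm

/-- Regularity propagates. -/
theorem mRegular_of_le {F : X.Modules} (hF : Coh.IsCoh F) {m n' : ℤ} (h : Pic13.IsMRegular k i F m)
    (hn : m ≤ n') : Pic13.IsMRegular k i F n' := fun q hq =>
  (subsingleton_push_iff k i hF _ q).1 (Groth.Agent.S3224.result k n _ (Coherent.isCoh_push_finite i hF) m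
    (fun j hj => (subsingleton_push_iff k i hF _ j).2 (h j hj)) q (n' - q) hq (by omega))

/-- Regular twists are globally generated. -/
theorem globallyGenerated {F : X.Modules} (hF : Coh.IsCoh F) {d : ℤ} (h : Pic13.IsMRegular k i F d) :
    Curv2.IsGloballyGenerated (Pic13.twistOn k i F d) := by
  haveI := isLocallyNoetherian_dom k i
  have hP := Coherent.isCoh_push_finite i hF
  have hg := CAlgH3.PSheafGen.isGloballyGenerated hP.1
    (fun j hj _ => (subsingleton_push_iff k i hF _ j).2 (h j hj)) (CAlgH3.PSheafGen.isCoh_twistProj hP d)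
  haveI := DCat.ClosedPush.isIso_counit i (Pic13.twistOn k i F d)
  exact globallyGenerated_of_iso ((Scheme.Modules.pullback i).mapIso (pushTwistIso k i F d) ≪≫
      asIso ((Scheme.Modules.pullbackPushforwardAdjunction i).counit.app _))
    (Desc19b.isGloballyGenerated_pullback i hg)

variable [X.Over (Spec (CommRingCat.of k))] [IsProper (X ↘ Spec (CommRingCat.of k))]

/-- A globally generated module is a quotient of as many copies of `O` as its space of sections has dimension. -/
theorem exists_epi_free {M : X.Modules} (hM : Coh.IsCoh M) (hgg : Curv2.IsGloballyGenerated M) {p : ℕ}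
    (hp : Module.finrank k (Coh.HH X M 0) = p) :
    ∃ π : (∐ fun _ : Fin p => Coh.structureModule X) ⟶ M, Epi π := by
  haveI := EulerLib.isNoetherian_of_proper (X := X) k
  haveI := CurveRR24.finite_HH_of_isCoh k hM 0
  haveI : Module.Finite k ((CohIII.globalSectionsA k).obj M : ModuleCat.{u} k) :=
    Module.Finite.equiv (Coherent.CohBC.globalEquivA k M)
  let b := Module.finBasisOfFinrankEq k ((CohIII.globalSectionsA k).obj M : ModuleCat.{u} k)
    ((NumSec27.finrank_global k M).symm.trans hp)
  let π : (∐ fun _ : Fin p => Coh.structureModule X) ⟶ M :=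
    Sigma.desc fun j => Coherent.unitDesc M (show Γ(M, (⊤ : X.Opens)) from b j)
  refine ⟨π, Preadditive.epi_of_cancel_zero _ fun {C} f hf => ?_⟩
  refine Quot8.eq_zero_of_globallyGenerated hgg f fun s => ?_
  have hb : ∀ j, f.app ⊤ (show Γ(M, (⊤ : X.Opens)) from b j) = 0 := fun j => by
    have h1 : Coherent.unitDesc M (show Γ(M, (⊤ : X.Opens)) from b j) ≫ f = 0 := by
      rw [← Sigma.ι_desc (fun j => Coherent.unitDesc M (show Γ(M, (⊤ : X.Opens)) from b j)) j,
        Category.assoc, hf, comp_zero]
    have h2 := congrArg (fun φ : Coh.structureModule X ⟶ C => φ.app (⊤ : X.Opens) (1 : Γ(X, ⊤))) h1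
    have h4 := unitVal_unitDesc M (show Γ(M, (⊤ : X.Opens)) from b j) ⊤
    rw [resM_self] at h4
    exact (congrArg (f.app ⊤) h4.symm).trans h2
  let φ := ((CohIII.globalSectionsA k).map f).hom
  have hφ : φ = 0 := b.ext fun j => hb j
  exact LinearMap.congr_fun hφ s

set_option backward.isDefEq.respectTransparency false in
/-- A module whose twist by an invertible module is generated by `p` sections is a quotient of twists. -/
theorem exists_epi_twists {G N N' : X.Modules} {p : ℕ} (e : CohB1.tensorMod N N' ≅ Coh.structureModule X)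
    (π : (∐ fun _ : Fin p => Coh.structureModule X) ⟶ CohB1.tensorMod G N) [Epi π] :
    ∃ π' : (∐ fun _ : Fin p => N') ⟶ G, Epi π' := by
  haveI := Quot8.isEquivalence_tensorR (tensorComm N' N ≪≫ e)
  let a₀ : N' ≅ (Quot8.tensorR N').obj (Coh.structureModule X) := (unitTensorIso N').symm
  let a₁ : (∐ fun _ : Fin p => (Quot8.tensorR N').obj (Coh.structureModule X)) ≅
      (Quot8.tensorR N').obj (∐ fun _ : Fin p => Coh.structureModule X) :=
    (PreservesCoproduct.iso (Quot8.tensorR N') (fun _ : Fin p => Coh.structureModule X)).symm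
  let a : (∐ fun _ : Fin p => N') ≅ (Quot8.tensorR N').obj (∐ fun _ : Fin p => Coh.structureModule X) :=
    Sigma.mapIso (fun _ => a₀) ≪≫ a₁
  haveI : Epi ((Quot8.tensorR N').map π) := inferInstance
  let b : CohB1.tensorMod (CohB1.tensorMod G N) N' ≅ G :=
    DCat.TensorAssoc.assocIso G N N' ≪≫ AmpleLib.tensorIso (Iso.refl G) e ≪≫
      tensorComm G (Coh.structureModule X) ≪≫ unitTensorIso G
  let u : (∐ fun _ : Fin p => N') ⟶ CohB1.tensorMod (CohB1.tensorMod G N) N' := a.hom ≫ (Quot8.tensorR N').map π
  haveI : Epi u := epi_comp _ _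
  exact ⟨u ≫ b.hom, epi_comp u b.hom⟩

end Groth.Agent.PicTau27
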