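import Groth.Agent.FlatMor12.FreeLocusBC
import Groth.Agent.RefHullLib.FreeLocus
import Groth.Agent.VarietyLib.DetWedge
import Groth.Agent.PicLib.PullbackGen
import Groth.Prelude.Def_Pic13
import Groth.Agent.ZClosLib.Descent
import Groth.Agent.PicLib.FiniteSetTriv
import Groth.Agent.VarietyLib.Dual

/-!
# The invertible locus of a flat proper family
-/

set_option autoImplicit false
set_option linter.style.haveILetI false
set_option linter.unusedSectionVars false
set_option backward.isDefEq.respectTransparency.types false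

universe u

open CategoryTheory CategoryTheory.Limits AlgebraicGeometry TopologicalSpace Opposite TensorProduct
open Groth.Agent.Coherent Groth.Agent.AmpleLib Groth.Agent.PicLib

noncomputable section

namespace Groth.Agent.PicTau27

theorem free_stalk_invertible {X : Scheme.{u}} {L : X.Modules} (hL : PicF.IsInvertible L) (x : X) :
    Module.Free (X.presheaf.stalk x) (L.presheaf.stalk x) := by
  obtain ⟨U, hxU, e, he⟩ := exists_isGen hL x
  have hb := VarietyLib.gen_germ_bijective he hxU
  let l : X.presheaf.stalk x →ₗ[X.presheaf.stalk x] L.presheaf.stalk x :=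
    LinearMap.toSpanSingleton _ _ (L.presheaf.germ U _ hxU e)
  exact Module.Free.of_equiv (LinearEquiv.ofBijective l hb)

theorem finrank_stalk_invertible {X : Scheme.{u}} {L : X.Modules} (hL : PicF.IsInvertible L) (x : X) :
    Module.finrank (X.presheaf.stalk x) (L.presheaf.stalk x) = 1 := by
  obtain ⟨U, hxU, e, he⟩ := exists_isGen hL x
  have hb := VarietyLib.gen_germ_bijective he hxU
  let l : X.presheaf.stalk x →ₗ[X.presheaf.stalk x] L.presheaf.stalk x :=
    LinearMap.toSpanSingleton _ _ (L.presheaf.germ U _ hxU e)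
  rw [← (LinearEquiv.ofBijective l hb).finrank_eq]
  exact Module.finrank_self _

/-- A module free at a point is trivial near it as soon as some pullback at that point is invertible. -/
theorem exists_trivial_nhd {P Z : Scheme.{u}} [IsLocallyNoetherian P] {F : P.Modules} (hF : Coh.IsCoh F)
    (s : Z ⟶ P) (x : Z) (hfree : Module.Free (P.presheaf.stalk (s x)) (F.presheaf.stalk (s x)))
    (hinv : PicF.IsInvertible ((Scheme.Modules.pullback s).obj F)) :
    ∃ W : P.Opens, s x ∈ W ∧ Nonempty (F.restrict W.ι ≅ Coh.structureModule W.toScheme) := by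
  haveI : Coh.IsQCoh F := hF.1
  obtain ⟨V, n, hxV, ⟨e⟩⟩ := Props12.exists_nhd_free F (Coherent.isFP_of_isCoh hF) (s x) hfree
  obtain ⟨_, ⟨U, hU, rfl⟩, hxU, hUV⟩ := P.isBasis_affineOpens.exists_subset_of_mem_open hxV V.isOpen
  obtain ⟨b⟩ := Props12.exists_basis_sections e hUV
  obtain ⟨b', -⟩ := VarietyLib.exists_basis_stalk_of_basis F hU b hxU
  have h1 : Module.finrank (P.presheaf.stalk (s x)) (F.presheaf.stalk (s x)) = n := by
    rw [Module.finrank_eq_card_basis b', Fintype.card_fin]
  have h2 : Module.finrank (P.presheaf.stalk (s x)) (F.presheaf.stalk (s x)) = 1 := by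
    letI := (s.stalkMap x).hom.toAlgebra
    haveI := hfree
    rw [← Module.finrank_baseChange (R := Z.presheaf.stalk x),
      ← (FlatMor12.FreeLocusBC.stalkTensor s F x).finrank_eq]
    exact finrank_stalk_invertible hinv x
  obtain rfl : n = 1 := h1.symm.trans h2
  exact ⟨V, hxV, ⟨e ≪≫ PicLib.freeModOneIso _⟩⟩

theorem isInvertible_pullback_of_local {P Z : Scheme.{u}} {F : P.Modules} (c : Z ⟶ P)
    (h : ∀ z : Z, ∃ W : P.Opens, c z ∈ W ∧ Nonempty (F.restrict W.ι ≅ Coh.structureModule W.toScheme)) :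
    PicF.IsInvertible ((Scheme.Modules.pullback c).obj F) := fun z => by
  obtain ⟨W, hz, ⟨e⟩⟩ := h z
  exact ⟨c ⁻¹ᵁ W, hz, ⟨(Scheme.Modules.restrictFunctorIsoPullback (c ⁻¹ᵁ W).ι).app _ ≪≫
    (Scheme.Modules.pullbackComp (c ⁻¹ᵁ W).ι c).app F ≪≫
    (Scheme.Modules.pullbackCongr (morphismRestrict_ι c W).symm).app F ≪≫
    ((Scheme.Modules.pullbackComp (c ∣_ W) W.ι).app F).symm ≪≫
    (Scheme.Modules.pullback (c ∣_ W)).mapIso (((Scheme.Modules.restrictFunctorIsoPullback W.ι).app F).symm ≪≫ e) ≪≫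
    PicLoc.pullbackStructureIso _⟩⟩

variable (k : Type u) [Field k] (X : Scheme.{u}) [X.Over (Spec (CommRingCat.of k))]
  [IsProper (X ↘ Spec (CommRingCat.of k))]

theorem isPullback_sliceAt {T : Scheme.{u}} (q : T ⟶ Spec (CommRingCat.of k)) (t : Spec (CommRingCat.of k) ⟶ T)
    (ht : t ≫ q = 𝟙 _) :
    IsPullback (Pic13.sliceAt k X q t ht) (X ↘ Spec (CommRingCat.of k))
      (pullback.snd (X ↘ Spec (CommRingCat.of k)) q) t := by
  refine IsPullback.of_right ?_ (pullback.lift_snd _ _ _) (IsPullback.of_hasPullback (X ↘ Spec (CommRingCat.of k)) q)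
  rw [show Pic13.sliceAt k X q t ht ≫ pullback.fst _ _ = 𝟙 X from pullback.lift_fst _ _ _, ht]
  exact IsPullback.of_horiz_isIso ⟨by simp⟩

/-- The invertible members of a flat family are the fibres of an invertible family over an open subscheme. -/
theorem exists_invertible_family {T : Scheme.{u}} (q : T ⟶ Spec (CommRingCat.of k)) [IsProper q]
    {F : (Pic13.prodK k X q).Modules} (hF : Coh.IsCoh F)
    (hfl : FlatMod.IsFlatOver (pullback.snd (X ↘ Spec (CommRingCat.of k)) q) F) :
    ∃ (T' : Scheme.{u}) (q' : T' ⟶ Spec (CommRingCat.of k)), LocallyOfFiniteType q' ∧ QuasiCompact q' ∧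
      ∃ (M : (Pic13.prodK k X q').Modules), PicF.IsInvertible M ∧
        ∀ (t : Spec (CommRingCat.of k) ⟶ T) (ht : t ≫ q = 𝟙 _), PicF.IsInvertible (Pic13.fibreMod k X q t ht F) →
          ∃ (t' : Spec (CommRingCat.of k) ⟶ T') (ht' : t' ≫ q' = 𝟙 _),
            Nonempty (Pic13.fibreMod k X q' t' ht' M ≅ Pic13.fibreMod k X q t ht F) := by
  let P := Pic13.prodK k X q
  let p : P ⟶ T := pullback.snd (X ↘ Spec (CommRingCat.of k)) q
  haveI : IsProper p := inferInstanceAs (IsProper (pullback.snd (X ↘ Spec (CommRingCat.of k)) q))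
  haveI : IsLocallyNoetherian T := LocallyOfFiniteType.isLocallyNoetherian q
  haveI : CompactSpace T := QuasiCompact.compactSpace_of_compactSpace q
  haveI : IsNoetherian T := {}
  haveI : IsLocallyNoetherian P := LocallyOfFiniteType.isLocallyNoetherian p
  let Good : Set P := {z | ∃ W : P.Opens, z ∈ W ∧ Nonempty (F.restrict W.ι ≅ Coh.structureModule W.toScheme)}
  have hopen : IsOpen Good := isOpen_iff_forall_mem_open.2 fun z ⟨W, hz, hW⟩ =>
    ⟨W, fun _ hy => ⟨W, hy, hW⟩, W.isOpen, hz⟩
  let U : T.Opens := ⟨(p '' Goodᶜ)ᶜ, (p.isClosedMap _ hopen.isClosed_compl).isOpen_compl⟩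
  let c : Pic13.prodK k X (U.ι ≫ q) ⟶ P :=
    pullback.lift (pullback.fst _ _) (pullback.snd _ _ ≫ U.ι) (by rw [Category.assoc]; exact pullback.condition)
  have hc : c ≫ p = pullback.snd _ _ ≫ U.ι := pullback.lift_snd _ _ _
  haveI : QuasiCompact U.ι := inferInstance
  haveI : LocallyOfFiniteType (U.ι ≫ q) := inferInstance
  haveI : QuasiCompact (U.ι ≫ q) := inferInstance
  refine ⟨U.toScheme, U.ι ≫ q, inferInstance, inferInstance, (Scheme.Modules.pullback c).obj F,
    isInvertible_pullback_of_local c fun z => ?_, fun t ht hinv => ?_⟩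
  · have hz : p (c z) ∈ U := by
      rw [← Scheme.Hom.comp_apply, hc, Scheme.Hom.comp_apply]
      exact ((pullback.snd (X ↘ Spec (CommRingCat.of k)) (U.ι ≫ q)) z).2
    by_contra hne
    exact hz ⟨c z, hne, rfl⟩
  · let s := Pic13.sliceAt k X q t ht
    have hsq := isPullback_sliceAt k X q t ht
    have hgood : ∀ z : P, p z ∈ Set.range t → z ∈ Good := fun z hz => by
      obtain ⟨a, ha⟩ := hz
      obtain ⟨y, hy, -⟩ := Scheme.Pullback.exists_preimage_pullback z a ha.symm
      obtain ⟨x, rfl⟩ : z ∈ Set.range s := ⟨hsq.isoPullback.inv y, by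
        rw [← Scheme.Hom.comp_apply, hsq.isoPullback_inv_fst, hy]⟩
      refine exists_trivial_nhd hF s x ?_ hinv
      haveI : Coh.IsQCoh F := hF.1
      exact (FlatMor12.FreeLocusBC.free_stalk_iff p F (Coherent.isFP_of_isCoh hF) hfl t _ s hsq x).1
        (free_stalk_invertible hinv x)
    have hrange : Set.range t ⊆ Set.range U.ι := by
      rw [Scheme.Opens.range_ι]
      rintro _ ⟨a, rfl⟩ ⟨z, hz, hza⟩
      exact hz (hgood z ⟨a, hza.symm⟩)
    let t' := IsOpenImmersion.lift U.ι t hrange
    have ht' : t' ≫ U.ι ≫ q = 𝟙 _ := by rw [IsOpenImmersion.lift_fac_assoc, ht]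
    refine ⟨t', ht', ⟨(Scheme.Modules.pullbackComp (Pic13.sliceAt k X (U.ι ≫ q) t' ht') c).app F ≪≫
      (Scheme.Modules.pullbackCongr ?_).app F⟩⟩
    apply pullback.hom_ext
    · rw [Category.assoc, pullback.lift_fst]
      exact (pullback.lift_fst _ _ _).trans (pullback.lift_fst _ _ _).symm
    · rw [Category.assoc, pullback.lift_snd, ← Category.assoc]
      refine (congrArg (· ≫ U.ι) (pullback.lift_snd _ _ _)).trans ?_
      rw [Category.assoc, IsOpenImmersion.lift_fac]
      exact (pullback.lift_snd _ _ _).symm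

end Groth.Agent.PicTau27
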