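import Groth.Agent.PicTau27.Family
import Groth.Agent.PicTau27.Locus
import Groth.Agent.NumTriv23.VeryAmple
import Groth.Agent.NumSec27.EulerProper

/-!
# Numerically trivial invertible modules form a bounded family on projective schemes
-/

set_option autoImplicit false
set_option linter.style.haveILetI false
set_option linter.unusedSectionVars false
set_option backward.isDefEq.respectTransparency.types false

universe u

open CategoryTheory CategoryTheory.Limits AlgebraicGeometry TopologicalSpace Opposite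
open Groth.Agent.Coherent Groth.Agent.AmpleLib Groth.Agent.EulerLib
open Groth.Agent.H0Growth23 Groth.Agent.NumTriv23
open Groth.Agent.CAlgH3.PSheafGen

noncomputable section

namespace Groth.Agent.PicTau27

theorem exists_twist_class (k : Type u) [Field k] (r : ℕ) :
    ∃ a : ℤ → InvCl (CohB1.ProjSpace r k), a 0 = 1 ∧ (∀ b c, a (b + c) = a b * a c) ∧
      ∀ d, a d = InvCl.mk (Twist.twistProjSpace r k d) (isInvertible_twistProj d) := by
  refine ⟨fun d => InvCl.mk (Twist.twistProjSpace r k d) (isInvertible_twistProj d), ?_, fun b c => ?_, fun d => rfl⟩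
  · obtain ⟨e⟩ := TwistLib.nonempty_twist_zero_iso (𝒜 := CohB1.polyGrading r k)
    have e' : Twist.twistProjSpace r k 0 ≅ Coh.structureModule (CohB1.ProjSpace r k) := e
    exact InvCl.mk_eq _ AmpleLib.isInvertible_structureModule e'
  · obtain ⟨e⟩ := TwistLib.nonempty_tensor_twist_iso (𝒜 := CohB1.polyGrading r k) covers
      (show b + c = b + c from rfl)
    have e' : CohB1.tensorMod (Twist.twistProjSpace r k b) (Twist.twistProjSpace r k c) ≅
        Twist.twistProjSpace r k (b + c) := e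
    exact ((InvCl.mk_mul _ _).trans (InvCl.mk_eq _ _ e')).symm

variable {X : Scheme.{u}} (k : Type u) [Field k] [X.Over (Spec (CommRingCat.of k))]
  [IsProper (X ↘ Spec (CommRingCat.of k))]

attribute [local instance] overBC

/-- Uniform vanishing for numerically trivial twists of high ample powers, any field. -/
theorem exists_uniform_vanish_field {A : X.Modules} (hA : CohB1.IsAmple A) :
    ∃ m₀ : ℕ, ∀ m, m₀ ≤ m → ∀ c, IsNum k c → ∀ i, 1 ≤ i →
      hh k (Coh.structureModule X) i (c * InvCl.mk A hA.1 ^ m) = 0 := by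
  let K := AlgebraicClosure k
  haveI := EulerLib.isNoetherian_of_proper (X := Curv2.bc k X K) K
  obtain ⟨m₀, hm₀⟩ := exists_uniform_vanish K (isAmple_bc k K hA) (Coherent.isCoh_structureModule (Curv2.bc k X K))
  refine ⟨m₀, fun m hm c hc i hi => ?_⟩
  have h := hm₀ m hm _ (isNum_bc k K ⟨A, hA⟩ hc) i hi
  rwa [← VarietyLib.pullHom_mk _ hA.1, ← map_pow, ← map_mul, hh_bc] at h

/-- **Boundedness of numerically trivial invertible modules**, projective schemes. -/
theorem exists_numTriv_family (hproj : ∃ A : X.Modules, CohB1.IsAmple A) :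
    ∃ (T : Scheme.{u}) (q : T ⟶ Spec (CommRingCat.of k)), LocallyOfFiniteType q ∧ QuasiCompact q ∧
      ∃ (M : (Pic13.prodK k X q).Modules), PicF.IsInvertible M ∧
        ∀ (L : X.Modules) (hL : PicF.IsInvertible L), IsNum k (InvCl.mk L hL) →
          ∃ (t : Spec (CommRingCat.of k) ⟶ T) (ht : t ≫ q = 𝟙 _),
            Nonempty (Pic13.fibreMod k X q t ht M ≅ L) := by
  haveI := EulerLib.isNoetherian_of_proper (X := X) k
  obtain ⟨A, hA⟩ := hproj
  obtain ⟨e₀, r, ι, he₀, hι, hιq, hhyp⟩ := exists_embedding_pow k hA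
  haveI := hι
  have hO := Coherent.isCoh_structureModule X
  let O := Coh.structureModule X
  have hdim : topologicalKrullDim X ≤ r :=
    (ι.isClosedEmbedding.isEmbedding.toIsInducing.topologicalKrullDim_le).trans
      (DimLib.PN.topologicalKrullDim_projSpace r k).le
  obtain ⟨m₀, hm₀'⟩ := exists_uniform_vanish_field k hA
  have hm₀ : ∀ m, m₀ ≤ m → ∀ c, IsNum k c → ∀ i, 1 ≤ i → hh k O i (c * hyp k ι ^ m) = 0 := fun m hm c hc i hi => by
    rw [hhyp, ← pow_mul]
    exact hm₀' _ (hm.trans (Nat.le_mul_of_pos_left m he₀)) c hc i hi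
  let a : ℤ → InvCl X := fun d => InvCl.mk _ (isInvertible_twist k ι d)
  obtain ⟨a₀, h00, h0add, ha₀⟩ := exists_twist_class k r
  have ha : ∀ d, a d = VarietyLib.pullHom ι (a₀ d) := fun d => by rw [ha₀, VarietyLib.pullHom_mk]
  have hadd : ∀ b c, a (b + c) = a b * a c := fun b c => by rw [ha, ha, ha, h0add, map_mul]
  have hzero : a 0 = 1 := by rw [ha, h00, map_one]
  have hpow : ∀ m : ℕ, a (m : ℤ) = hyp k ι ^ m := fun m => by
    induction m with
    | zero => simpa using hzero
    | succ m ih => rw [Nat.cast_succ, hadd, ih, pow_succ]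
  obtain ⟨Φ, -, hΦ⟩ := EulerLib.exists_poly_int k hO hdim a hzero hadd
  let M := m₀ + r
  let p := (chiCl k O (hyp k ι ^ M)).toNat
  obtain ⟨T, q, hq, F, hF, hfl, hfam⟩ := exists_family k ι hιq p (-(M : ℤ)) Φ
  haveI := hq
  obtain ⟨T', q', hlft, hqc, M', hM', hinv⟩ := exists_invertible_family k X q hF hfl
  refine ⟨T', q', hlft, hqc, M', hM', fun L hL hc => ?_⟩
  set c := InvCl.mk L hL
  have hchi : ∀ x, chiCl k O (c * x) = chiCl k O x := fun x => by
    have h := NumSec27.chiCl_eq_of_num_proper k hL hc (isCoh_twCl k hO x)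
    rwa [chiCl_twCl, chiCl_twCl, mul_one, mul_comm] at h
  have hLc : Coh.IsCoh L := PicLib.isCoh_of_isInvertible hL
  have hN := isInvertible_twist k ι (M : ℤ)
  let N := (Scheme.Modules.pullback ι).obj (Twist.twistProjSpace r k (M : ℤ))
  have hLN := AmpleLib.isInvertible_tensorMod hL hN
  have hcl : InvCl.mk (CohB1.tensorMod L N) hLN = c * hyp k ι ^ M := by
    rw [← InvCl.mk_mul hL hN, ← hpow]
  -- generation
  have hreg : Pic13.IsMRegular k ι L (M : ℤ) := fun q hq => by
    haveI := (isCoh_twistOn k ι hLc ((M : ℤ) - q)).1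
    rcases le_or_gt q r with hqr | hqr
    · obtain ⟨l, hl⟩ : ∃ l : ℕ, (M : ℤ) - q = l := ⟨M - q, by omega⟩
      rw [hl]
      refine Mumford23.subsingleton_of_finrank_eq_zero k (isCoh_twistOn k ι hLc l) q ?_
      have hLl := AmpleLib.isInvertible_tensorMod hL (isInvertible_twist k ι (l : ℤ))
      have hcl' : InvCl.mk (Pic13.twistOn k ι L l) hLl = c * hyp k ι ^ l := by
        rw [← hpow, show c * a (l : ℤ) = InvCl.mk L hL * InvCl.mk _ (isInvertible_twist k ι (l : ℤ)) from rfl,
          InvCl.mk_mul hL (isInvertible_twist k ι (l : ℤ))]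
        rfl
      rw [← hh_structure k q (Pic13.twistOn k ι L l) hLl, hcl']
      exact hm₀ l (by omega) c hc q hq
    · haveI := EulerLib.isSeparated_of_proper (X := X) k
      exact EulerLib.subsingleton_HH_of_dim _ hdim hqr
  have hgg : Curv2.IsGloballyGenerated (CohB1.tensorMod L N) := globallyGenerated k ι hLc hreg
  have hfr : Module.finrank k (Coh.HH X (CohB1.tensorMod L N) 0) = p := by
    rw [← hh_structure k 0 _ hLN, hcl]
    have h := chiCl_eq_of_vanish k (G := O) (c := c * hyp k ι ^ M)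
      (fun i hi => hm₀ M (Nat.le_add_right _ _) c hc i (by omega)) hO
    rw [hchi, hm₀ M (Nat.le_add_right _ _) c hc 1 le_rfl, Nat.cast_zero, sub_zero] at h
    show hh k O 0 _ = (chiCl k O (hyp k ι ^ M)).toNat
    rw [h]; rfl
  obtain ⟨π, hπ⟩ := exists_epi_free k (PicLib.isCoh_of_isInvertible hLN) hgg hfr
  haveI := hπ
  obtain ⟨eN⟩ := nonempty_iso_of_mk_eq
    (show InvCl.mk _ (AmpleLib.isInvertible_tensorMod hN (isInvertible_twist k ι (-(M : ℤ)))) =
        InvCl.mk (Coh.structureModule X) AmpleLib.isInvertible_structureModule by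
      rw [← InvCl.mk_mul hN (isInvertible_twist k ι (-(M : ℤ)))]
      exact ((hadd _ _).symm.trans (congrArg a (add_neg_cancel _))).trans hzero)
  obtain ⟨π', hπ'⟩ := exists_epi_twists (N := N)
    (N' := (Scheme.Modules.pullback ι).obj (Twist.twistProjSpace r k (-(M : ℤ)))) eN π
  haveI := hπ'
  obtain ⟨t, ht, ⟨et⟩⟩ := hfam L π' hLc fun d => by
    rw [eulerCharLE_eq k (Pic13.twistOn k ι L d) (isCoh_twistOn k ι hLc d).1 hdim, ← hΦ d,
      ← hchi (a d)]
    refine congrArg (fun z : ℤ => (z : ℚ)) ?_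
    show _ = chiCl k O (InvCl.mk L hL * InvCl.mk _ (isInvertible_twist k ι d))
    rw [InvCl.mk_mul hL (isInvertible_twist k ι d), chiCl_mk]
    exact euler_congr k X (unitTensorIso (Pic13.twistOn k ι L d)).symm
  obtain ⟨t', ht', ⟨et'⟩⟩ := hinv t ht (fun y => let ⟨W, hy, ⟨w⟩⟩ := hL y; ⟨W, hy, ⟨(Scheme.Modules.restrictFunctor W.ι).mapIso et ≪≫ w⟩⟩)
  exact ⟨t', ht', ⟨et' ≪≫ et⟩⟩

end Groth.Agent.PicTau27
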