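import Groth.Agent.PicTau27.Gen
import Groth.Agent.Quot8.Euler
import Groth.Agent.Quot8.Present
import Groth.Agent.S11734
import Groth.Agent.KZeroLib.SigmaCoh
import Groth.Agent.Coherent.CohBC.EulerFamily

/-!
# Families of quotients over a projective Quot scheme
-/

set_option autoImplicit false
set_option linter.style.haveILetI false
set_option linter.unusedSectionVars false
set_option backward.isDefEq.respectTransparency.types false
set_option maxHeartbeats 1600000

universe u

open CategoryTheory CategoryTheory.Limits AlgebraicGeometry TopologicalSpace Opposite TensorProduct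
open Groth.Agent.Coherent Groth.Agent.AmpleLib Groth.Agent.PicLib

noncomputable section

namespace Groth.Agent.PicTau27

/-- The two models of projective space over a field. -/
theorem exists_projIso (k : Type u) [Field k] (n : ℕ) :
    ∃ c : CohB1.ProjSpace n k ≅ CohB1.ProjSpaceOver n (Spec (CommRingCat.of k)),
      c.hom ≫ CohB1.ProjSpaceOver.toBase n (Spec (CommRingCat.of k)) = CohB1.ProjSpace.toSpec n k ∧
      ∀ t : ℤ, Nonempty ((Scheme.Modules.pullback c.hom).obj (Twist.twistOver n (Spec (CommRingCat.of k)) t) ≅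
        Twist.twistProjSpace n k t) := by
  let g := Quot8.hG n (Spec (CommRingCat.of k))
  obtain ⟨a, ha, hat⟩ := (Quot8.isPn_projSpaceOver n (Spec (CommRingCat.of k))).exists_projSquare (R := k) (𝟙 _)
  haveI : IsIso a := ha.isIso_fst_of_isIso
  exact ⟨asIso a, ha.w.trans (Category.comp_id _), hat⟩

variable (k : Type u) [Field k] {X : Scheme.{u}} [X.Over (Spec (CommRingCat.of k))]
  [IsProper (X ↘ Spec (CommRingCat.of k))] {n : ℕ} (i : X ⟶ CohB1.ProjSpace n k) [IsClosedImmersion i]

/-- The quotients of `i^*O(ν)^p` with Hilbert polynomial `Φ` are the fibres of one flat family over a projective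
scheme. -/
theorem exists_family (hi : i ≫ CohB1.ProjSpace.toSpec n k = X ↘ Spec (CommRingCat.of k)) (p : ℕ) (ν : ℤ)
    (Φ : Polynomial ℚ) :
    ∃ (T : Scheme.{u}) (q : T ⟶ Spec (CommRingCat.of k)) (_ : IsProper q) (F : (Pic13.prodK k X q).Modules),
      Coh.IsCoh F ∧ FlatMod.IsFlatOver (pullback.snd (X ↘ Spec (CommRingCat.of k)) q) F ∧
      ∀ (G : X.Modules) (π : (∐ fun _ : Fin p => (Scheme.Modules.pullback i).obj (Twist.twistProjSpace n k ν)) ⟶ G)
        [Epi π], Coh.IsCoh G → (∀ d : ℤ, (FGA.eulerCharLE k X (Pic13.twistOn k i G d) n : ℚ) = Φ.eval (d : ℚ)) →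
          ∃ (t : Spec (CommRingCat.of k) ⟶ T) (ht : t ≫ q = 𝟙 _),
            Nonempty (Pic13.fibreMod k X q t ht F ≅ G) := by
  obtain ⟨c, hc, hct⟩ := exists_projIso k n
  haveI := EulerLib.isNoetherian_of_proper (X := X) k
  let S : Scheme.{u} := Spec (CommRingCat.of k)
  let ι : X ⟶ CohB1.ProjSpaceOver n S := i ≫ c.hom
  haveI : IsClosedImmersion ι := inferInstanceAs (IsClosedImmersion (i ≫ c.hom))
  let f : X ⟶ S := ι ≫ CohB1.ProjSpaceOver.toBase n S
  have hf : f = X ↘ Spec (CommRingCat.of k) := by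
    show (i ≫ c.hom) ≫ _ = _
    rw [Category.assoc, hc, hi]
  have hN : ∀ d : ℤ, Nonempty ((Scheme.Modules.pullback ι).obj (Twist.twistOver n S d) ≅
      (Scheme.Modules.pullback i).obj (Twist.twistProjSpace n k d)) := fun d =>
    ⟨((Scheme.Modules.pullbackComp i c.hom).app _).symm ≪≫ (Scheme.Modules.pullback i).mapIso (hct d).some⟩
  let E : X.Modules := ∐ fun _ : Fin p => (Scheme.Modules.pullback ι).obj (Twist.twistOver n S ν)
  have hE : Coh.IsCoh E := KZeroLib.isCoh_sigma_finite ⟨inferInstance⟩ _ fun _ =>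
    Coherent.isCoh_of_iso (hN ν).some.symm (PicLib.isCoh_of_isInvertible (isInvertible_twist k i ν))
  haveI : Coh.IsQCoh E := hE.1
  obtain ⟨Q, K, hQ, -, huniv, r, cQ, hcQ, hcQw⟩ := Groth.Agent.S11734.result S n X ι E hE p ν (𝟙 E) Φ
  haveI := hQ
  haveI : IsProper Q.hom := by
    haveI := hcQ
    haveI : IsProper (CohB1.ProjSpaceOver.toBase r S) := (Quot8.isPn_projSpaceOver r S).isProper
    rw [← hcQw]; infer_instance
  haveI : IsProper f := by rw [hf]; infer_instance
  haveI : LocallyOfFiniteType f := inferInstance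
  let cmp : Pic13.prodK k X Q.hom ⟶ PicF.XT f Q :=
    pullback.lift (pullback.fst _ _) (pullback.snd _ _) (by rw [hf]; exact pullback.condition)
  let cmp' : PicF.XT f Q ⟶ Pic13.prodK k X Q.hom :=
    pullback.lift (pullback.fst _ _) (pullback.snd _ _) (by rw [← hf]; exact pullback.condition)
  have hcmp : cmp ≫ cmp' = 𝟙 _ := by
    refine pullback.hom_ext ?_ ?_
    · exact (Category.assoc _ _ _).trans ((congrArg (cmp ≫ ·) (pullback.lift_fst _ _ _)).trans
        ((pullback.lift_fst _ _ _).trans (Category.id_comp _).symm))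
    · exact (Category.assoc _ _ _).trans ((congrArg (cmp ≫ ·) (pullback.lift_snd _ _ _)).trans
        ((pullback.lift_snd _ _ _).trans (Category.id_comp _).symm))
  have hcmp' : cmp' ≫ cmp = 𝟙 _ := by
    refine pullback.hom_ext ?_ ?_
    · exact (Category.assoc _ _ _).trans ((congrArg (cmp' ≫ ·) (pullback.lift_fst _ _ _)).trans
        ((pullback.lift_fst _ _ _).trans (Category.id_comp _).symm))
    · exact (Category.assoc _ _ _).trans ((congrArg (cmp' ≫ ·) (pullback.lift_snd _ _ _)).trans
        ((pullback.lift_snd _ _ _).trans (Category.id_comp _).symm))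
  let cI : Pic13.prodK k X Q.hom ≅ PicF.XT f Q := ⟨cmp, cmp', hcmp, hcmp'⟩
  refine ⟨Q.left, Q.hom, inferInstance, (Scheme.Modules.pullback cI.hom).obj (cokernel K.1.arrow),
    ZClosLib.isCoh_pullback cI.hom _ K.2.1,
    Quot8.isFlatOver_pullback_iso (PicF.XTproj f Q) _ cI (pullback.lift_snd _ _ _) _ K.2.2,
    fun G π _ hG hP => ?_⟩
  let T₀ : Over S := Over.mk (𝟙 S)
  haveI : IsLocallyNoetherian T₀.left := inferInstanceAs (IsLocallyNoetherian (Spec (CommRingCat.of k)))
  let a : PicF.XT f T₀ ⟶ X := pullback.fst f T₀.hom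
  haveI : IsIso a := (IsPullback.of_hasPullback f (𝟙 S)).isIso_fst_of_isIso
  let u : E ⟶ G := (Sigma.mapIso fun _ => (hN ν).some).hom ≫ π
  haveI : Epi u := epi_comp _ _
  let u₀ : FGA.ET f E T₀ ⟶ (Scheme.Modules.pullback a).obj G := (Scheme.Modules.pullback a).map u
  haveI : Epi u₀ := Grass.epi_pullback_map a u
  let K' := Quot8.mkQuot f E u₀ (ZClosLib.isCoh_pullback a _ hG) (CohBC.isFlatOver_field _ _ _)
  obtain ⟨eK, -⟩ := Quot8.exists_cokernel_kernelSubobject_iso u₀
  obtain ⟨g, hg, -⟩ := huniv T₀ K' fun t d => by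
    let b := pullback.fst (PicF.XTproj f T₀) (T₀.left.fromSpecResidueField t)
    let K₁ := T₀.left.residueField t
    let φ : CommRingCat.of k ⟶ K₁ := Spec.preimage (T₀.left.fromSpecResidueField t)
    letI : Algebra k K₁ := φ.hom.toAlgebra
    letI : ((FGA.fibreAt f T₀ t).left).Over (Spec (CommRingCat.of K₁)) := ⟨(FGA.fibreAt f T₀ t).hom⟩
    let v : (FGA.fibreAt f T₀ t).left ⟶ X := b ≫ a
    have hmap : Spec.map (CommRingCat.ofHom (algebraMap k K₁)) = T₀.left.fromSpecResidueField t :=
      Spec.map_preimage _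
    have hsq : IsPullback v ((FGA.fibreAt f T₀ t).left ↘ Spec (CommRingCat.of K₁))
        (X ↘ Spec (CommRingCat.of k)) (Spec.map (CommRingCat.ofHom (algebraMap k K₁))) := by
      have h2 : IsPullback (b ≫ a) (pullback.snd (PicF.XTproj f T₀) (T₀.left.fromSpecResidueField t))
          f (T₀.left.fromSpecResidueField t ≫ 𝟙 S) :=
        (IsPullback.of_hasPullback (PicF.XTproj f T₀) (T₀.left.fromSpecResidueField t)).paste_horiz
          (IsPullback.of_hasPullback f T₀.hom)
      exact h2.of_iso (Iso.refl _) (Iso.refl _) (Iso.refl _) (Iso.refl _)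
        ((Category.comp_id _).trans (Category.id_comp _).symm) ((Category.comp_id _).trans (Category.id_comp _).symm)
        ((Category.comp_id _).trans (hf.trans (Category.id_comp _).symm))
        ((Category.comp_id _).trans ((Category.comp_id _).trans (hmap.symm.trans (Category.id_comp _).symm)))
    rw [← hP d]
    refine congrArg (fun z : ℤ => (z : ℚ)) ?_
    haveI : Coh.IsQCoh (Pic13.twistOn k i G d) := (isCoh_twistOn k i hG d).1
    have e : CohB1.tensorMod (FGA.restrFibre f T₀ t (cokernel K'.1.arrow))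
        (FGA.restrFibre f T₀ t (FGA.ET f ((Scheme.Modules.pullback ι).obj (Twist.twistOver n S d)) T₀)) ≅
        (Scheme.Modules.pullback (b ≫ a)).obj (Pic13.twistOn k i G d) :=
      (AmpleLib.tensorIso ((Scheme.Modules.pullback b).mapIso eK ≪≫ (Scheme.Modules.pullbackComp b a).app G)
        ((Scheme.Modules.pullbackComp b a).app _ ≪≫ (Scheme.Modules.pullback (b ≫ a)).mapIso (hN d).some)) ≪≫
        (DCat.PullTensor.pullTensorIso (b ≫ a) G _).symm
    refine Finset.sum_congr rfl fun j _ => congrArg (fun m : ℕ => (-1 : ℤ) ^ j * (m : ℤ)) ?_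
    obtain ⟨e'⟩ := nonempty_flat_base_change (A := k) (B := K₁) (X' := (FGA.fibreAt f T₀ t).left) (g := v) (M := Pic13.twistOn k i G d) hsq j
    exact (CohBC.finrank_HH_congr _ e j).trans (e'.finrank_eq.symm.trans Module.finrank_baseChange)
  have hcok : Nonempty ((Scheme.Modules.pullback (PicF.XTmap f g)).obj (cokernel K.1.arrow) ≅
      (Scheme.Modules.pullback a).obj G) := by
    haveI := Quot8.epi_bcQ f E g (cokernel.π K.1.arrow)
    have e1 : kernelSubobject (Quot8.bcQ f E g (cokernel.π K.1.arrow)) = kernelSubobject u₀ := by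
      rw [← Quot8.quotPull_kernelSubobject, Quot8.kernelSubobject_cokernel, hg]
      rfl
    obtain ⟨j, -⟩ := Quot8.exists_iso_of_kernelSubobject_eq _ _ e1
    exact ⟨j⟩
  have ht : g.left ≫ Q.hom = 𝟙 _ := Over.w g
  refine ⟨g.left, ht, ⟨?_⟩⟩
  have hs : Pic13.sliceAt k X Q.hom g.left ht ≫ cI.hom = inv a ≫ PicF.XTmap f g := by
    apply pullback.hom_ext
    · rw [Category.assoc, Category.assoc, FGA.XTmap_fst, IsIso.inv_hom_id, pullback.lift_fst]
      exact pullback.lift_fst _ _ _
    · rw [Category.assoc, Category.assoc, pullback.lift_snd, show PicF.XTmap f g ≫ pullback.snd f Q.hom =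
        pullback.snd f T₀.hom ≫ g.left from pullback.lift_snd _ _ _]
      rw [show Pic13.sliceAt k X Q.hom g.left ht ≫ pullback.snd _ _ =
        (X ↘ Spec (CommRingCat.of k)) ≫ g.left from pullback.lift_snd _ _ _, ← Category.assoc (inv a)]
      congr 1
      rw [← hf, IsIso.eq_inv_comp]
      exact pullback.condition.trans (Category.comp_id _)
  exact (Scheme.Modules.pullbackComp (Pic13.sliceAt k X Q.hom g.left ht) cI.hom).app (cokernel K.1.arrow) ≪≫
    (Scheme.Modules.pullbackCongr hs).app _ ≪≫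
    ((Scheme.Modules.pullbackComp (inv a) (PicF.XTmap f g)).app _).symm ≪≫
    (Scheme.Modules.pullback (inv a)).mapIso hcok.some ≪≫
    (Scheme.Modules.pullbackComp (inv a) a).app G ≪≫
    (Scheme.Modules.pullbackCongr (IsIso.inv_hom_id a)).app G ≪≫
    (Scheme.Modules.pullbackId X).app G

end Groth.Agent.PicTau27
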