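import Groth.Agent.PicTau27.Bounded

/-!
# Numerically trivial invertible modules over finite fields are torsion (projective case)
-/

set_option autoImplicit false
set_option linter.style.haveILetI false
set_option linter.unusedSectionVars false
set_option backward.isDefEq.respectTransparency.types false

universe u

open CategoryTheory CategoryTheory.Limits AlgebraicGeometry TopologicalSpace Opposite
open Groth.Agent.Coherent Groth.Agent.AmpleLib Groth.Agent.EulerLib
open Groth.Agent.H0Growth23 Groth.Agent.NumTriv23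

noncomputable section

namespace Groth.Agent.PicTau27

/-- A scheme of finite type over a finite field has finitely many rational points. -/
theorem finite_sections (k : Type u) [Field k] [Finite k] {T : Scheme.{u}} (q : T ⟶ Spec (CommRingCat.of k))
    [LocallyOfFiniteType q] [QuasiCompact q] :
    Finite {t : Spec (CommRingCat.of k) ⟶ T // t ≫ q = 𝟙 _} := by
  haveI : CompactSpace T := QuasiCompact.compactSpace_of_compactSpace q
  let 𝒰 := T.affineCover.finiteSubcover
  haveI : Finite 𝒰.I₀ := inferInstance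
  have hex : ∀ t : {t : Spec (CommRingCat.of k) ⟶ T // t ≫ q = 𝟙 _}, ∃ (i : 𝒰.I₀)
      (s : Spec (CommRingCat.of k) ⟶ 𝒰.X i), s ≫ 𝒰.f i = t.1 := fun t => by
    obtain ⟨i, y, hy⟩ := 𝒰.exists_eq (t.1 (IsLocalRing.closedPoint k))
    exact ⟨i, IsOpenImmersion.lift (𝒰.f i) t.1 (by
      rintro _ ⟨z, rfl⟩
      rw [show z = IsLocalRing.closedPoint k from Subsingleton.elim (α := PrimeSpectrum k) _ _]
      exact ⟨y, hy⟩), IsOpenImmersion.lift_fac _ _ _⟩
  choose i s hs using hex
  have hfin : ∀ j : 𝒰.I₀, Finite {s : Spec (CommRingCat.of k) ⟶ 𝒰.X j // s ≫ 𝒰.f j ≫ q = 𝟙 _} := fun j => by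
    haveI : IsAffine (𝒰.X j) := inferInstanceAs (IsAffine (T.affineCover.X _))
    let B := Γ(𝒰.X j, ⊤)
    let e := (𝒰.X j).isoSpec
    let φ : CommRingCat.of k ⟶ B := Spec.preimage (e.inv ≫ 𝒰.f j ≫ q)
    letI : Algebra k B := φ.hom.toAlgebra
    haveI : Algebra.FiniteType k B := by
      have h : LocallyOfFiniteType (Spec.map φ) := by
        rw [Spec.map_preimage]; infer_instance
      exact (HasRingHomProperty.Spec_iff (P := @LocallyOfFiniteType)).1 h
    haveI : Finite (B →ₐ[k] k) := by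
      obtain ⟨S, hS⟩ := Algebra.FiniteType.out (R := k) (A := B)
      refine Finite.of_injective (fun f (x : S) => f x.1) fun f g hfg => ?_
      exact AlgHom.ext_of_adjoin_eq_top hS fun x hx => congrFun hfg ⟨x, hx⟩
    have hψ : ∀ s : {s : Spec (CommRingCat.of k) ⟶ 𝒰.X j // s ≫ 𝒰.f j ≫ q = 𝟙 _},
        φ ≫ Spec.preimage (s.1 ≫ e.hom) = 𝟙 _ := fun s => by
      apply Spec.map_injective
      rw [Spec.map_comp, Spec.map_preimage, Spec.map_preimage, Spec.map_id, Category.assoc,
        e.hom_inv_id_assoc]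
      exact s.2
    refine Finite.of_injective (fun s => ({ (Spec.preimage (s.1 ≫ e.hom)).hom with
      commutes' := fun r => congrArg (fun m : CommRingCat.of k ⟶ CommRingCat.of k => m r) (hψ s) } :
        B →ₐ[k] k)) fun a b hab => ?_
    have h1 : Spec.preimage (a.1 ≫ e.hom) = Spec.preimage (b.1 ≫ e.hom) :=
      CommRingCat.hom_ext (RingHom.ext fun x => congrArg (fun f : B →ₐ[k] k => f x) hab)
    have h2 := congrArg Spec.map h1
    rw [Spec.map_preimage, Spec.map_preimage] at h2
    exact Subtype.ext ((cancel_mono e.hom).1 h2)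
  refine Finite.of_injective (β := Σ j : 𝒰.I₀, {s : Spec (CommRingCat.of k) ⟶ 𝒰.X j // s ≫ 𝒰.f j ≫ q = 𝟙 _})
    (fun t => ⟨i t, s t, by rw [← Category.assoc, hs t]; exact t.2⟩) fun a b hab => ?_
  refine Subtype.ext ?_
  have := congrArg (fun p : Σ j : 𝒰.I₀, {s : Spec (CommRingCat.of k) ⟶ 𝒰.X j // s ≫ 𝒰.f j ≫ q = 𝟙 _} =>
    p.2.1 ≫ 𝒰.f p.1) hab
  simpa [hs] using this

/-- Over a finite field numerically trivial invertible modules on projective schemes are torsion. -/
theorem exists_pow_trivial_finite (k : Type u) [Field k] [Finite k] {X : Scheme.{u}}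
    [X.Over (Spec (CommRingCat.of k))] [IsProper (X ↘ Spec (CommRingCat.of k))]
    (hproj : ∃ A : X.Modules, CohB1.IsAmple A) {L : X.Modules}
    (hL : PicF.IsInvertible L) (hnum : IsNum k (InvCl.mk L hL)) :
    ∃ d : ℕ, 0 < d ∧ Nonempty (CohB1.tensorPow L d ≅ Coh.structureModule X) := by
  obtain ⟨T, q, hlft, hqc, M, hM, hfam⟩ := exists_numTriv_family k hproj
  haveI := hlft
  haveI := hqc
  haveI := finite_sections k q
  have hn : ∀ n : ℕ, IsNum k (InvCl.mk _ (AmpleLib.isInvertible_tensorPow hL n)) := fun n => by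
    rw [InvCl.mk_tensorPow hL]; exact hnum.pow k n
  choose t ht et using fun n => hfam _ (AmpleLib.isInvertible_tensorPow hL n) (hn n)
  obtain ⟨a, b, hne, heq⟩ := Finite.exists_ne_map_eq_of_infinite
    fun n : ℕ => (⟨t n, ht n⟩ : {t : Spec (CommRingCat.of k) ⟶ T // t ≫ q = 𝟙 _})
  suffices key : ∀ a b : ℕ, a < b → t a = t b →
      ∃ d : ℕ, 0 < d ∧ Nonempty (CohB1.tensorPow L d ≅ Coh.structureModule X) by
    rcases Nat.lt_or_gt_of_ne hne with h | h
    · exact key a b h (congrArg Subtype.val heq)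
    · exact key b a h (congrArg Subtype.val heq.symm)
  intro a b hab htt
  have hiso : Nonempty (CohB1.tensorPow L a ≅ CohB1.tensorPow L b) := by
    have h1 : ∀ (s s' : Spec (CommRingCat.of k) ⟶ T) (hs : s ≫ q = 𝟙 _) (hs' : s' ≫ q = 𝟙 _), s = s' →
        Nonempty (Pic13.fibreMod k X q s hs M ≅ Pic13.fibreMod k X q s' hs' M) := by
      intro s s' hs hs' h
      subst h
      exact ⟨Iso.refl _⟩
    obtain ⟨j⟩ := h1 (t a) (t b) (ht a) (ht b) htt
    exact ⟨(et a).some.symm ≪≫ j ≪≫ (et b).some⟩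
  obtain ⟨cinv, hcinv⟩ := H0Growth23.exists_inv (AmpleLib.isInvertible_tensorPow hL a)
  have hc := InvCl.mk_eq (AmpleLib.isInvertible_tensorPow hL a) (AmpleLib.isInvertible_tensorPow hL b) hiso.some
  rw [hc, InvCl.mk_tensorPow hL] at hcinv
  rw [InvCl.mk_tensorPow hL, InvCl.mk_tensorPow hL] at hc
  refine ⟨b - a, by omega, nonempty_iso_of_mk_eq (hL := AmpleLib.isInvertible_tensorPow hL (b - a))
    (hN := AmpleLib.isInvertible_structureModule) ?_⟩
  rw [InvCl.mk_tensorPow hL]
  show InvCl.mk L hL ^ (b - a) = 1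
  rw [← hc] at hcinv
  calc InvCl.mk L hL ^ (b - a) = InvCl.mk L hL ^ (b - a) * (InvCl.mk L hL ^ a * cinv) := by rw [hcinv, mul_one]
    _ = InvCl.mk L hL ^ b * cinv := by rw [← mul_assoc, ← pow_add, Nat.sub_add_cancel hab.le]
    _ = 1 := by rw [← hc, hcinv]

end Groth.Agent.PicTau27
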