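import Groth.Agent.H8Coh.FibreAmple
import Groth.Agent.AbCubeLib.AmpleField

/-!
# Models of a proper scheme with two invertible modules over a finitely generated subring
-/

set_option autoImplicit false
set_option maxHeartbeats 800000
set_option backward.isDefEq.respectTransparency.types false
set_option linter.style.haveILetI false

universe u

open CategoryTheory CategoryTheory.Limits AlgebraicGeometry TopologicalSpace
open Groth.Agent.AmpleLib Groth.Agent.ConsPropLib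

noncomputable section

namespace Groth.Agent.PicTau27

/-- An invertible module descends to a later stage, compatibly with the given one. -/
theorem exists_stage_invertible {I : Type u} [SmallCategory I] [IsCofiltered I] {D : I ⥤ Scheme.{u}}
    {c : Cone D} (hc : IsLimit c) [∀ {i j : I} (a : i ⟶ j), IsAffineHom (D.map a)]
    (hN : ∀ i, IsNoetherian (D.obj i)) {l : I} {X₀ : Scheme.{u}} (u₀ : X₀ ⟶ D.obj l)
    [LocallyOfFinitePresentation u₀] [QuasiCompact u₀] [QuasiSeparated u₀]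
    {X : Scheme.{u}} {q : X ⟶ X₀} {u : X ⟶ c.pt} (sq : IsPullback q u u₀ (c.π.app l)) [IsProper u]
    (L : X.Modules) (hL : PicF.IsInvertible L) :
    ∃ (m : I) (X₁ : Scheme.{u}) (u₁ : X₁ ⟶ D.obj m) (q₁ : X ⟶ X₁) (g : X₁ ⟶ X₀) (L₁ : X₁.Modules),
      IsProper u₁ ∧ IsPullback q₁ u u₁ (c.π.app m) ∧ q₁ ≫ g = q ∧ PicF.IsInvertible L₁ ∧
        Nonempty (L ≅ (Scheme.Modules.pullback q₁).obj L₁) := by
  have := hN l
  have : IsLocallyNoetherian X₀ := LocallyOfFiniteType.isLocallyNoetherian u₀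
  have : CompactSpace X₀ := QuasiCompact.compactSpace_of_compactSpace u₀
  have : QuasiSeparatedSpace X₀ := quasiSeparatedSpace_of_quasiSeparated u₀
  have hF : CohB1.IsFP L := H8Coh.FibreAmple.isFP_of_invertible hL
  have : Coh.IsQCoh (X := (H8Lim.stageCone u₀ c q u sq).pt) L := ConsPropLib.isQCoh_of_isFP hF
  have hlim := H8Lim.isLimitStageCone u₀ q u sq hc
  have := fun {j k : Over l} (g : j ⟶ k) =>
    (inferInstance : IsAffineHom ((H8Lim.stage D u₀).map g))
  let top : Over l := Over.mk (𝟙 l)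
  obtain ⟨k, -, Fk, -, hFk, ⟨e⟩⟩ :=
    H8Lim.exists_stage_fpModule (D := H8Lim.stage D u₀) hlim (i := top) L hF
  have h1 : FlatMod.IsFinLocFreeOfRank 1
      ((Scheme.Modules.pullback ((H8Lim.stageCone u₀ c q u sq).π.app k)).obj Fk) :=
    PicLib.isFinLocFreeOfRank_one (KLLib.isInvertible_of_iso e.symm hL)
  haveI : Coh.IsQCoh Fk := EGA43.FibDepth.isQCoh_of_isFP _ hFk
  haveI : CompactSpace ((H8Lim.stage D u₀).obj k) :=
    QuasiCompact.compactSpace_of_compactSpace (H8Lim.stageFst D u₀ k)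
  obtain ⟨i₂, g₂, hr⟩ := (H8Lim.isFinLocFreeOfRank_iff_eventually hlim Fk hFk 1).1 h1
  obtain ⟨i₁, φ₁, hp⟩ := H8Lim.descends_isProper D c hc (fun φ => inferInstance)
    l u₀ (inferInstance : LocallyOfFiniteType u₀) u q sq ‹IsProper u›
  obtain ⟨m, a₁, a₂, ha⟩ := IsCofiltered.cospan φ₁ i₂.hom
  let o : Over l := Over.mk (a₁ ≫ φ₁)
  let o₂ : o ⟶ i₂ := Over.homMk a₂ ha.symm
  refine ⟨m, (H8Lim.stage D u₀).obj o, H8Lim.stageSnd D u₀ o, H8Lim.stageProj u₀ c q u sq o,
    H8Lim.stageFst D u₀ o, (Scheme.Modules.pullback ((H8Lim.stage D u₀).map (o₂ ≫ g₂))).obj Fk,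
    ?_, ?_, H8Lim.stageProj_fst u₀ c q u sq o, ?_, ⟨?_⟩⟩
  · exact H8Lim.prop_snd_map_comp hp a₁
  · exact IsPullback.of_right (by rw [H8Lim.stageProj_fst, c.w]; exact sq)
      (H8Lim.stageProj_snd u₀ _ q u sq o) (H8Lim.isPullback_stage D u₀ o)
  · exact KLLib.isInvertible_of_iso ((Scheme.Modules.pullbackComp _ _).app Fk ≪≫
      (Scheme.Modules.pullbackCongr ((H8Lim.stage D u₀).map_comp o₂ g₂).symm).app Fk)
      (PicLoc.isInvertible_pullback ((H8Lim.stage D u₀).map o₂) (KRRPBLib.isInvertible_of_rankOne hr))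
  · exact e.symm ≪≫ (Scheme.Modules.pullbackCongr ((H8Lim.stageCone u₀ c q u sq).w (o₂ ≫ g₂)).symm).app Fk ≪≫
      ((Scheme.Modules.pullbackComp _ _).app Fk).symm

/-- A proper finitely presented scheme with two invertible modules comes from a finitely generated subring. -/
theorem exists_model_two {R : CommRingCat.{u}} {X : Scheme.{u}} (u : X ⟶ Spec R) [IsProper u]
    [LocallyOfFinitePresentation u] (A L : X.Modules) (hA : PicF.IsInvertible A) (hL : PicF.IsInvertible L) :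
    ∃ (s : (Finset R)ᵒᵖ) (X₀ : Scheme.{u}) (u₀ : X₀ ⟶ (H8Lim.fgSpecDiagram R).obj s) (q : X ⟶ X₀)
      (A₀ L₀ : X₀.Modules), IsProper u₀ ∧ IsPullback q u u₀ ((H8Lim.fgSpecCone R).π.app s) ∧
        PicF.IsInvertible A₀ ∧ PicF.IsInvertible L₀ ∧
        Nonempty (A ≅ (Scheme.Modules.pullback q).obj A₀) ∧ Nonempty (L ≅ (Scheme.Modules.pullback q).obj L₀) := by
  have hN : ∀ i, IsNoetherian ((H8Lim.fgSpecDiagram R).obj i) := fun i =>
    inferInstanceAs (IsNoetherian (Spec (CommRingCat.of (H8Lim.fgSub R i.unop))))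
  obtain ⟨j, X₁, h₁, q₁, _, _, _, sX⟩ := H8Lim.exists_stage_spec (R := R) u
  have : IsProper (Y := (H8Lim.fgSpecCone R).pt) u := ‹IsProper u›
  obtain ⟨l, X₂, u₂, q₂, -, A₂, hp₂, sq₂, -, hA₂, ⟨eA⟩⟩ :=
    exists_stage_invertible (H8Lim.isLimitFgSpecCone R) hN h₁ sX A hA
  have := hN l
  have := hp₂
  haveI : LocallyOfFinitePresentation u₂ := inferInstance
  obtain ⟨m, X₃, u₃, q₃, g, L₃, hp₃, sq₃, hg, hL₃, eL⟩ :=
    exists_stage_invertible (H8Lim.isLimitFgSpecCone R) hN u₂ sq₂ L hL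
  exact ⟨m, X₃, u₃, q₃, (Scheme.Modules.pullback g).obj A₂, L₃, hp₃, sq₃,
    PicLoc.isInvertible_pullback g hA₂, hL₃,
    ⟨eA ≪≫ (Scheme.Modules.pullbackCongr hg.symm).app A₂ ≪≫ ((Scheme.Modules.pullbackComp q₃ g).app A₂).symm⟩, eL⟩

end Groth.Agent.PicTau27
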