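import Groth.Agent.EulerLib.FieldExt
import Groth.Prelude.Def_Pi1
import Mathlib.RingTheory.Flat.FaithfullyFlat.Algebra

/-!
# Normality descends along flat surjective morphisms
-/

set_option autoImplicit false
set_option backward.isDefEq.respectTransparency.types false

universe u

open CategoryTheory CategoryTheory.Limits AlgebraicGeometry

namespace Groth.Agent.PicTau27

theorem isIntegrallyClosed_of_faithfullyFlat {A B : Type*} [CommRing A] [CommRing B] [Algebra A B]
    [Module.FaithfullyFlat A B] [IsDomain B] [IsIntegrallyClosed B] : IsDomain A ∧ IsIntegrallyClosed A := by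
  have hinj : Function.Injective (algebraMap A B) := FaithfulSMul.algebraMap_injective A B
  haveI : IsDomain A := hinj.isDomain
  refine ⟨‹_›, (isIntegrallyClosed_iff (FractionRing A)).2 fun {x} hx => ?_⟩
  obtain ⟨a, b, hb, rfl⟩ := IsFractionRing.div_surjective (A := A) x
  have hb0 : b ≠ 0 := nonZeroDivisors.ne_zero hb
  let j : FractionRing A →ₐ[A] FractionRing B :=
    IsFractionRing.liftAlgHom (g := Algebra.ofId A (FractionRing B))
      ((IsFractionRing.injective B (FractionRing B)).comp hinj)
  have hj := (hx.map j).tower_top (A := B)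
  rw [map_div₀, j.commutes, j.commutes, IsScalarTower.algebraMap_apply A B (FractionRing B),
    IsScalarTower.algebraMap_apply A B (FractionRing B) b] at hj
  obtain ⟨c, hc⟩ := (IsIntegrallyClosed.isIntegral_iff).1 hj
  have hbB : algebraMap A B b ≠ 0 := fun h => hb0 (hinj (by rw [h, map_zero]))
  have hab : algebraMap A B a = algebraMap A B b * c := IsFractionRing.injective B (FractionRing B) (by
    rw [map_mul, hc, mul_div_cancel₀ _ ((map_ne_zero_iff _ (IsFractionRing.injective B (FractionRing B))).2 hbB)])
  have hmem : a ∈ ((Ideal.span {b}).map (algebraMap A B)).comap (algebraMap A B) := by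
    rw [Ideal.mem_comap, Ideal.map_span, Set.image_singleton, Ideal.mem_span_singleton]
    exact ⟨c, hab⟩
  rw [Ideal.comap_map_eq_self_of_faithfullyFlat, Ideal.mem_span_singleton] at hmem
  obtain ⟨e, he⟩ := hmem
  exact ⟨e, by rw [he, map_mul, mul_div_assoc, mul_comm, div_mul_cancel₀ _
    ((map_ne_zero_iff _ (IsFractionRing.injective A (FractionRing A))).2 hb0)]⟩

theorem isNormalScheme_of_flat_surjective {X Y : Scheme.{u}} (g : Y ⟶ X) [Flat g] [Surjective g]
    (hY : Pi1.IsNormalScheme Y) : Pi1.IsNormalScheme X := fun x => by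
  obtain ⟨y, rfl⟩ := g.surjective x
  obtain ⟨h1, h2⟩ := hY y
  haveI := h1
  haveI := h2
  letI := (g.stalkMap y).hom.toAlgebra
  haveI : Module.Flat (X.presheaf.stalk (g y)) (Y.presheaf.stalk y) := Flat.stalkMap g y
  haveI : IsLocalHom (algebraMap (X.presheaf.stalk (g y)) (Y.presheaf.stalk y)) :=
    inferInstanceAs (IsLocalHom (g.stalkMap y).hom)
  haveI : Module.FaithfullyFlat (X.presheaf.stalk (g y)) (Y.presheaf.stalk y) :=
    Module.FaithfullyFlat.of_flat_of_isLocalHom
  exact isIntegrallyClosed_of_faithfullyFlat (B := Y.presheaf.stalk y)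

end Groth.Agent.PicTau27
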