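import Groth.Agent.PicTau27.Bounded
import Groth.Agent.HenselLib.ProperCouple
import Groth.Agent.FlatMor12.SteinGeneral

/-!
# Numerically trivial modules are τ-equivalent to zero on projective schemes
-/

set_option autoImplicit false
set_option linter.style.haveILetI false
set_option linter.unusedSectionVars false
set_option backward.isDefEq.respectTransparency.types false

universe u

open CategoryTheory CategoryTheory.Limits AlgebraicGeometry TopologicalSpace Opposite
open Groth.Agent.Coherent Groth.Agent.AmpleLib Groth.Agent.EulerLib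
open Groth.Agent.H0Growth23 Groth.Agent.NumTriv23

noncomputable section

namespace Groth.Agent.PicTau27

variable {X : Scheme.{u}} (k : Type u) [Field k] [X.Over (Spec (CommRingCat.of k))]

/-- Two members of a family over the same connected component differ by a class algebraically equivalent to zero. -/
theorem isAlgEquivZero_of_component {T : Scheme.{u}} (q : T ⟶ Spec (CommRingCat.of k)) [LocallyOfFiniteType q]
    [QuasiCompact q] {M : (Pic13.prodK k X q).Modules} (hM : PicF.IsInvertible M)
    {t t₀ : Spec (CommRingCat.of k) ⟶ T} (ht : t ≫ q = 𝟙 _) (ht₀ : t₀ ≫ q = 𝟙 _)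
    (hcon : ∀ z, connectedComponent (t z) = connectedComponent (t₀ z)) {L R : X.Modules} (hR : PicF.IsInvertible R)
    (e : Nonempty (CohB1.tensorMod (Pic13.fibreMod k X q t ht M) R ≅ L))
    (e₀ : Nonempty (CohB1.tensorMod (Pic13.fibreMod k X q t₀ ht₀ M) R ≅ Coh.structureModule X)) :
    Pic13.IsAlgEquivZero k X L := by
  haveI : IsLocallyNoetherian T := LocallyOfFiniteType.isLocallyNoetherian q
  haveI : CompactSpace T := QuasiCompact.compactSpace_of_compactSpace q
  haveI : IsNoetherian T := {}
  let z₀ : Spec (CommRingCat.of k) := IsLocalRing.closedPoint k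
  let C : T.Opens := ⟨connectedComponent (t₀ z₀), HenselLib.ProperCouple.isOpen_connectedComponent (t₀ z₀)⟩
  haveI : ConnectedSpace C.toScheme :=
    (isConnected_iff_connectedSpace.1 (isConnected_connectedComponent (x := t₀ z₀)))
  have hlift : ∀ s : Spec (CommRingCat.of k) ⟶ T, connectedComponent (s z₀) = connectedComponent (t₀ z₀) →
      Set.range s ⊆ Set.range C.ι := fun s hs => by
    rw [Scheme.Opens.range_ι]
    rintro _ ⟨z, rfl⟩
    rw [show z = z₀ from Subsingleton.elim (α := PrimeSpectrum k) _ _]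
    show s z₀ ∈ connectedComponent (t₀ z₀)
    rw [← hs]
    exact mem_connectedComponent
  let c : Pic13.prodK k X (C.ι ≫ q) ⟶ Pic13.prodK k X q :=
    pullback.lift (pullback.fst _ _) (pullback.snd _ _ ≫ C.ι) (by rw [Category.assoc]; exact pullback.condition)
  let p₁ : Pic13.prodK k X (C.ι ≫ q) ⟶ X := pullback.fst _ _
  haveI : QuasiCompact C.ι := inferInstance
  refine ⟨C.toScheme, C.ι ≫ q, inferInstance, inferInstance, inferInstance,
    CohB1.tensorMod ((Scheme.Modules.pullback c).obj M) ((Scheme.Modules.pullback p₁).obj R),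
    AmpleLib.isInvertible_tensorMod (PicLoc.isInvertible_pullback c hM) (PicLoc.isInvertible_pullback p₁ hR), ?_⟩
  have key : ∀ (s : Spec (CommRingCat.of k) ⟶ T) (hs : s ≫ q = 𝟙 _) (hr : Set.range s ⊆ Set.range C.ι),
      ∃ (hs' : IsOpenImmersion.lift C.ι s hr ≫ C.ι ≫ q = 𝟙 _),
        Nonempty (Pic13.fibreMod k X (C.ι ≫ q) (IsOpenImmersion.lift C.ι s hr) hs'
          (CohB1.tensorMod ((Scheme.Modules.pullback c).obj M) ((Scheme.Modules.pullback p₁).obj R)) ≅
            CohB1.tensorMod (Pic13.fibreMod k X q s hs M) R) := fun s hs hr => by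
    have hs' : IsOpenImmersion.lift C.ι s hr ≫ C.ι ≫ q = 𝟙 _ := by rw [IsOpenImmersion.lift_fac_assoc, hs]
    let σ := Pic13.sliceAt k X (C.ι ≫ q) (IsOpenImmersion.lift C.ι s hr) hs'
    have h1 : σ ≫ c = Pic13.sliceAt k X q s hs := by
      apply pullback.hom_ext
      · rw [Category.assoc, pullback.lift_fst]
        exact (pullback.lift_fst _ _ _).trans (pullback.lift_fst _ _ _).symm
      · rw [Category.assoc, pullback.lift_snd, ← Category.assoc]
        refine (congrArg (· ≫ C.ι) (pullback.lift_snd _ _ _)).trans ?_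
        rw [Category.assoc, IsOpenImmersion.lift_fac]
        exact (pullback.lift_snd _ _ _).symm
    have h2 : σ ≫ p₁ = 𝟙 X := pullback.lift_fst _ _ _
    exact ⟨hs', ⟨DCat.PullTensor.pullTensorIso σ _ _ ≪≫ AmpleLib.tensorIso
      ((Scheme.Modules.pullbackComp σ c).app M ≪≫ (Scheme.Modules.pullbackCongr h1).app M)
      ((Scheme.Modules.pullbackComp σ p₁).app R ≪≫ (Scheme.Modules.pullbackCongr h2).app R ≪≫
        (Scheme.Modules.pullbackId X).app R)⟩⟩
  obtain ⟨h', ⟨a⟩⟩ := key t ht (hlift t (hcon z₀))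
  obtain ⟨h₀', ⟨a₀⟩⟩ := key t₀ ht₀ (hlift t₀ rfl)
  exact ⟨_, _, h', h₀', ⟨a ≪≫ e.some⟩, ⟨a₀ ≪≫ e₀.some⟩⟩

variable [IsProper (X ↘ Spec (CommRingCat.of k))]

/-- **Numerically trivial implies τ-equivalent to zero**, projective schemes. -/
theorem isTauEquivZero_of_isNum (hproj : ∃ A : X.Modules, CohB1.IsAmple A) {L : X.Modules}
    (hL : PicF.IsInvertible L) (hnum : IsNum k (InvCl.mk L hL)) : Pic13.IsTauEquivZero k X L := by
  obtain ⟨T, q, hlft, hqc, M, hM, hfam⟩ := exists_numTriv_family k hproj
  haveI := hlft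
  haveI := hqc
  haveI : IsLocallyNoetherian T := LocallyOfFiniteType.isLocallyNoetherian q
  haveI : CompactSpace T := QuasiCompact.compactSpace_of_compactSpace q
  haveI : IsNoetherian T := {}
  have hn : ∀ n : ℕ, IsNum k (InvCl.mk _ (AmpleLib.isInvertible_tensorPow hL n)) := fun n => by
    rw [InvCl.mk_tensorPow hL]; exact hnum.pow k n
  choose t ht et using fun n => hfam _ (AmpleLib.isInvertible_tensorPow hL n) (hn n)
  haveI := FlatMor12.SteinGeneral.finite_connectedComponents T
  obtain ⟨a, b, hne, heq⟩ := Finite.exists_ne_map_eq_of_infinite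
    fun n : ℕ => (_root_.ConnectedComponents.mk (t n (IsLocalRing.closedPoint k)) : _root_.ConnectedComponents T)
  suffices key : ∀ a b : ℕ, a < b →
      connectedComponent (t a (IsLocalRing.closedPoint k)) = connectedComponent (t b (IsLocalRing.closedPoint k)) →
      Pic13.IsTauEquivZero k X L by
    rcases Nat.lt_or_gt_of_ne hne with h | h
    · exact key a b h (_root_.ConnectedComponents.coe_eq_coe.1 heq)
    · exact key b a h (_root_.ConnectedComponents.coe_eq_coe.1 heq.symm)
  intro a b hab hcomp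
  refine ⟨b - a, by omega, ?_⟩
  obtain ⟨cinv, hcinv⟩ := H0Growth23.exists_inv (AmpleLib.isInvertible_tensorPow hL a)
  obtain ⟨R, hR, rfl⟩ := InvCl.exists_rep cinv
  refine isAlgEquivZero_of_component k q hM (ht b) (ht a) (fun z => ?_) hR ?_ ?_
  · rw [show z = IsLocalRing.closedPoint k from Subsingleton.elim (α := PrimeSpectrum k) _ _, hcomp]
  · have h : InvCl.mk _ (AmpleLib.isInvertible_tensorMod (AmpleLib.isInvertible_tensorPow hL b) hR) =
        InvCl.mk _ (AmpleLib.isInvertible_tensorPow hL (b - a)) := by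
      rw [← InvCl.mk_mul (AmpleLib.isInvertible_tensorPow hL b) hR, InvCl.mk_tensorPow hL, InvCl.mk_tensorPow hL]
      rw [InvCl.mk_tensorPow hL] at hcinv
      rw [← Nat.sub_add_cancel hab.le, pow_add, mul_assoc, hcinv, mul_one, Nat.add_sub_cancel]
    obtain ⟨e⟩ := nonempty_iso_of_mk_eq h
    exact ⟨AmpleLib.tensorIso (et b).some (Iso.refl R) ≪≫ e⟩
  · obtain ⟨e⟩ := nonempty_iso_of_mk_eq
      (show InvCl.mk _ (AmpleLib.isInvertible_tensorMod (AmpleLib.isInvertible_tensorPow hL a) hR) =
          InvCl.mk (Coh.structureModule X) AmpleLib.isInvertible_structureModule by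
        rw [← InvCl.mk_mul (AmpleLib.isInvertible_tensorPow hL a) hR, hcinv]; rfl)
    exact ⟨AmpleLib.tensorIso (et a).some (Iso.refl R) ≪≫ e⟩

end Groth.Agent.PicTau27
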