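import Groth.Agent.PicTau27.FinPoints
import Groth.Agent.PicTau27.Model
import Groth.Agent.NumSec27.BaseChange
import Groth.Agent.Coherent.BirationalFibre
import Groth.Agent.CurveRR24.RatPoint
import Groth.Agent.HenselLib.ProperCouple
import Groth.Agent.FlatMor12.SteinGeneral
import Groth.Agent.PicLib.BasisOn
import Groth.Agent.VarietyLib.PullDegree
import Groth.Agent.FEtFF.Generic

/-!
# Numerically trivial invertible modules over algebraic extensions of finite fields
-/

set_option autoImplicit false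
set_option linter.style.haveILetI false
set_option linter.unusedSectionVars false
set_option backward.isDefEq.respectTransparency.types false
set_option maxHeartbeats 1600000

universe u

open CategoryTheory CategoryTheory.Limits AlgebraicGeometry TopologicalSpace Opposite
open Groth.Agent.Coherent Groth.Agent.AmpleLib Groth.Agent.EulerLib Groth.Agent.PicLib
open Groth.Agent.H0Growth23 Groth.Agent.NumTriv23

noncomputable section

namespace Groth.Agent.PicTau27

attribute [local instance] NumTriv23.overBC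

/-- Finitely generated subrings of an algebraic extension of a finite prime field are finite. -/
theorem finite_fgSub (p : ℕ) [Fact (Nat.Prime p)] (k : Type u) [Field k] [CharP k p]
    (halg : ∀ x : k, ∃ n : ℕ, 0 < n ∧ x ^ (p ^ n) = x) (s : Finset k) : Finite (H8Lim.fgSub k s) := by
  have hint : ∀ x : k, IsIntegral ℤ x := fun x => by
    obtain ⟨n, hn, hx⟩ := halg x
    have h1 : 1 < p ^ n := Nat.one_lt_pow hn.ne' (Fact.out : Nat.Prime p).one_lt
    exact ⟨Polynomial.X ^ (p ^ n) - Polynomial.X,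
      Polynomial.monic_X_pow_sub (by rw [Polynomial.degree_X]; exact_mod_cast h1),
      by simp [hx]⟩
  haveI : Module.Finite ℤ (H8Lim.fgSub k s) :=
    Module.Finite.iff_fg.2 (fg_adjoin_of_finite s.finite_toSet fun x _ => hint x)
  exact Module.finite_of_fg_torsion _ fun b => ⟨⟨(p : ℤ),
    mem_nonZeroDivisors_of_ne_zero (by exact_mod_cast (Fact.out : Nat.Prime p).ne_zero)⟩, Subtype.ext (by
      show (p : ℤ) • (b : k) = 0
      simp [CharP.cast_eq_zero])⟩

variable {X : Scheme.{u}} (k : Type u) [Field k] [X.Over (Spec (CommRingCat.of k))]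
  [IsProper (X ↘ Spec (CommRingCat.of k))]

/-- Torsion on projective schemes. -/
theorem exists_pow_trivial_proj (p : ℕ) [Fact (Nat.Prime p)] [CharP k p]
    (halg : ∀ x : k, ∃ n : ℕ, 0 < n ∧ x ^ (p ^ n) = x) {A : X.Modules} (hA : CohB1.IsAmple A) {L : X.Modules}
    (hL : PicF.IsInvertible L) (hnum : IsNum k (InvCl.mk L hL)) :
    ∃ d : ℕ, 0 < d ∧ Nonempty (CohB1.tensorPow L d ≅ Coh.structureModule X) := by
  obtain ⟨s, X₀, u₀, q, A₀, L₀, hp₀, sq, hA₀, hL₀, ⟨eA⟩, ⟨eL⟩⟩ :=
    exists_model_two (R := CommRingCat.of k) (X ↘ Spec (CommRingCat.of k)) A L hA.1 hL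
  let B : Type u := H8Lim.fgSub k s.unop
  haveI : Finite B := finite_fgSub p k halg s.unop
  letI : Field B := (Finite.isField_of_domain B).toField
  letI : Algebra B k := (H8Lim.fgSub k s.unop).val.toRingHom.toAlgebra
  letI : X₀.Over (Spec (CommRingCat.of B)) := ⟨u₀⟩
  haveI : IsProper (X₀ ↘ Spec (CommRingCat.of B)) := hp₀
  have sq' : IsPullback q (X ↘ Spec (CommRingCat.of k)) (X₀ ↘ Spec (CommRingCat.of B))
      (Spec.map (CommRingCat.ofHom (algebraMap B k))) := sq
  have hA₀' : CohB1.IsAmple A₀ :=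
    AbCubeLib.isAmple_of_baseChange B k q sq' hA₀ (AmpleLib.isAmple_of_iso eA hA)
  let c : Curv2.bc B X₀ k ⟶ X := sq'.isoPullback.inv
  have hc1 : c ≫ q = Curv2.bcFst B X₀ k := sq'.isoPullback_inv_fst
  have hc2 : c ≫ (X ↘ Spec (CommRingCat.of k)) = Curv2.bc B X₀ k ↘ Spec (CommRingCat.of k) :=
    sq'.isoPullback_inv_snd
  have h1 := NumSec27.isNum_pullHom k c hc2 hL hnum
  rw [VarietyLib.pullHom_mk] at h1
  have ecL : (Scheme.Modules.pullback c).obj L ≅ (Scheme.Modules.pullback (Curv2.bcFst B X₀ k)).obj L₀ :=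
    (Scheme.Modules.pullback c).mapIso eL ≪≫ (Scheme.Modules.pullbackComp c q).app L₀ ≪≫
      (Scheme.Modules.pullbackCongr hc1).app L₀
  rw [InvCl.mk_eq (PicLoc.isInvertible_pullback c hL) (PicLoc.isInvertible_pullback _ hL₀) ecL] at h1
  have h2 := NumSec27.isNum_of_bc B k hL₀ (NumSec27.isNumEquivZero_of_isNum k _ h1)
  obtain ⟨d, hd, ⟨ed⟩⟩ := exists_pow_trivial_finite B ⟨A₀, hA₀'⟩ hL₀ h2
  refine ⟨d, hd, ?_⟩
  have e1 : InvCl.mk L hL = InvCl.mk _ (PicLoc.isInvertible_pullback q hL₀) := InvCl.mk_eq _ _ eL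
  refine nonempty_iso_of_mk_eq (hL := AmpleLib.isInvertible_tensorPow hL d)
    (hN := AmpleLib.isInvertible_structureModule) ?_
  rw [InvCl.mk_tensorPow hL, e1, ← VarietyLib.pullHom_mk q hL₀, ← map_pow, ← InvCl.mk_tensorPow hL₀,
    InvCl.mk_eq (AmpleLib.isInvertible_tensorPow hL₀ d) AmpleLib.isInvertible_structureModule ed]
  exact map_one _

omit [X.Over (Spec (CommRingCat.of k))] [IsProper (X ↘ Spec (CommRingCat.of k))] in
/-- An invertible module trivialised by `π` with `π_* O = O` is trivial. -/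
theorem nonempty_iso_of_pullback {Z : Scheme.{u}} (π : Z ⟶ X) [Surjective π]
    (hπ : ∀ V : X.Opens, IsIso (π.app V)) {L : X.Modules} (hL : PicF.IsInvertible L)
    (e : (Scheme.Modules.pullback π).obj L ≅ Coh.structureModule Z) :
    Nonempty (L ≅ Coh.structureModule X) := by
  let τ : Γ((Scheme.Modules.pullback π).obj L, (⊤ : Z.Opens)) := e.inv.app ⊤ (oneSec ⊤)
  have hτ : glocus _ τ = ⊤ := by
    rw [eq_top_iff, le_glocus_iff, resM_self]
    exact isGen_map_iso e.symm (isGen_oneSec ⊤)
  obtain ⟨σ, hσ⟩ := (bijective_pullSec_of_isFinLocFree π (fun V => ConcreteCategory.bijective_of_isIso (π.app V))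
    (fun x => by
      obtain ⟨U, hxU, h⟩ := PicLib.isFinLocFreeOfRank_one hL x
      exact ⟨U, 1, hxU, h⟩) ⊤).2 τ
  have hσ' : pullSec π σ = τ := hσ
  have hall : glocus L σ = ⊤ := top_le_iff.1 fun x _ => by
    obtain ⟨z, rfl⟩ := π.surjective x
    have : z ∈ glocus _ (pullSec π σ) := by rw [hσ', hτ]; trivial
    rwa [glocus_pullSec π hL σ] at this
  have h2 : IsGen L ⊤ σ := by
    have := (isGen_glocus (L := L) σ).restrict hall.ge
    rwa [Coherent.resM_resM, resM_self] at this
  exact TwistLib.nonempty_iso_of_isGen_top h2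

/-- Integral normal case. -/
theorem exists_pow_trivial_integral [IsIntegral X] (hX : Pi1.IsNormalScheme X) (p : ℕ) [Fact (Nat.Prime p)]
    [CharP k p] (halg : ∀ x : k, ∃ n : ℕ, 0 < n ∧ x ^ (p ^ n) = x) {L : X.Modules}
    (hL : PicF.IsInvertible L) (hnum : IsNum k (InvCl.mk L hL)) :
    ∃ d : ℕ, 0 < d ∧ Nonempty (CohB1.tensorPow L d ≅ Coh.structureModule X) := by
  haveI := EulerLib.isNoetherian_of_proper (X := X) k
  obtain ⟨n, hn⟩ : ∃ d : ℕ, topologicalKrullDim X = (d : WithBot ℕ∞) :=
    ⟨DimLib.ptDim (X ↘ Spec (CommRingCat.of k)) (genericPoint X),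
      ((Homeomorph.Set.univ X).isHomeomorph.topologicalKrullDim_eq).symm.trans
        (DimLib.topologicalKrullDim_eq_ptDim_of_isGenericPoint _ (genericPoint_spec X))⟩
  obtain ⟨Z, _, _, _, π, _, H, hH, hπ, hπη, hdeg, -⟩ := VarietyLib.exists_chow_integral (k := k) (Y := X) hn
  haveI : Surjective π := by
    refine ⟨Set.range_eq_univ.1 (Set.eq_univ_of_univ_subset ?_)⟩
    rw [← genericPoint_closure (α := X)]
    exact closure_minimal (Set.singleton_subset_iff.2 ⟨_, hπη⟩) π.isClosedMap.isClosed_range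
  have hbir : IsIso (π.stalkMap (genericPoint Z)) := by
    haveI : IsIso (π.residueFieldMap (genericPoint Z)) := by
      letI := (π.residueFieldMap (genericPoint Z)).hom.toAlgebra
      have hfr : Module.finrank (X.residueField (π (genericPoint Z))) (Z.residueField (genericPoint Z)) = 1 := hdeg
      have htop := Subalgebra.bot_eq_top_of_finrank_eq_one hfr
      refine (ConcreteCategory.isIso_iff_bijective _).2 ⟨(π.residueFieldMap _).hom.injective, fun v => ?_⟩
      exact Algebra.mem_bot.1 (htop.symm ▸ (trivial : v ∈ (⊤ : Subalgebra (X.residueField (π (genericPoint Z))) (Z.residueField (genericPoint Z)))))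
    refine (ConcreteCategory.isIso_iff_bijective _).2 ?_
    have hinj : ∀ (T : Scheme.{u}) (x : T) (_ : IsField (T.presheaf.stalk x)),
        Function.Bijective (T.residue x) := fun T x h => by
      refine ⟨?_, Scheme.residue_surjective T x⟩
      letI := h.toField
      exact (T.residue x).hom.injective
    have hZ : IsField (Z.presheaf.stalk (genericPoint Z)) := Field.toIsField Z.functionField
    have hXf : IsField (X.presheaf.stalk (π (genericPoint Z))) := by
      rw [hπη]; exact Field.toIsField X.functionField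
    have h := Scheme.residue_residueFieldMap π (genericPoint Z)
    have hb : Function.Bijective (X.residue (π (genericPoint Z)) ≫ π.residueFieldMap (genericPoint Z)) :=
      ((ConcreteCategory.isIso_iff_bijective (π.residueFieldMap (genericPoint Z))).1 inferInstance).comp
        (hinj X _ hXf)
    rw [h] at hb
    exact (Function.Bijective.of_comp_iff' (hinj Z _ hZ) _).1 hb
  have happ : ∀ V : X.Opens, IsIso (π.app V) := fun V =>
    Coherent.isIso_app_of_birational π hX hπη hbir V
  have hn' := NumSec27.isNum_pullHom k π hπ hL hnum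
  rw [VarietyLib.pullHom_mk] at hn'
  obtain ⟨d, hd, ⟨ed⟩⟩ := exists_pow_trivial_proj k p halg hH (PicLoc.isInvertible_pullback π hL) hn'
  obtain ⟨e, -⟩ := AmpleLib.exists_pullPowIso π hL d
  exact ⟨d, hd, nonempty_iso_of_pullback π happ (AmpleLib.isInvertible_tensorPow hL d) (e ≪≫ ed)⟩

/-- Normal proper schemes. -/
theorem exists_pow_trivial_normal (hX : Pi1.IsNormalScheme X) (p : ℕ) [Fact (Nat.Prime p)]
    [CharP k p] (halg : ∀ x : k, ∃ n : ℕ, 0 < n ∧ x ^ (p ^ n) = x) {L : X.Modules}
    (hL : PicF.IsInvertible L) (hnum : IsNum k (InvCl.mk L hL)) :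
    ∃ d : ℕ, 0 < d ∧ Nonempty (CohB1.tensorPow L d ≅ Coh.structureModule X) := by
  classical
  haveI := EulerLib.isNoetherian_of_proper (X := X) k
  let ι := _root_.ConnectedComponents X
  haveI : Finite ι := FlatMor12.SteinGeneral.finite_connectedComponents X
  let x : ι → X := fun i => (_root_.ConnectedComponents.surjective_coe i).choose
  have hx : ∀ i, (_root_.ConnectedComponents.mk (x i) : ι) = i := fun i =>
    (_root_.ConnectedComponents.surjective_coe i).choose_spec
  let W : ι → X.Opens := fun i => ⟨connectedComponent (x i), HenselLib.ProperCouple.isOpen_connectedComponent (x i)⟩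
  have hmem : ∀ y : X, y ∈ W (_root_.ConnectedComponents.mk y) := fun y =>
    show y ∈ connectedComponent (x _) from
      (_root_.ConnectedComponents.coe_eq_coe.1 (hx (_root_.ConnectedComponents.mk y))) ▸ mem_connectedComponent
  have hdisj : ∀ i j, ∀ y, y ∈ W i → y ∈ W j → i = j := fun i j y hi hj => by
    rw [← hx i, ← hx j]
    exact _root_.ConnectedComponents.coe_eq_coe.2 ((connectedComponent_eq hi).trans (connectedComponent_eq hj).symm)
  have hpc : ∀ i, ∃ d : ℕ, 0 < d ∧ ∃ s : Γ(CohB1.tensorPow L d, W i), IsGen (CohB1.tensorPow L d) (W i) s := fun i => by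
    haveI : IsClosedImmersion (W i).ι := IsClosedImmersion.of_isPreimmersion _ (by
      rw [Scheme.Opens.range_ι]; exact isClosed_connectedComponent)
    letI : (W i).toScheme.Over (Spec (CommRingCat.of k)) := ⟨(W i).ι ≫ (X ↘ Spec (CommRingCat.of k))⟩
    haveI : IsProper ((W i).toScheme ↘ Spec (CommRingCat.of k)) :=
      inferInstanceAs (IsProper ((W i).ι ≫ (X ↘ Spec (CommRingCat.of k))))
    haveI : ConnectedSpace (W i).toScheme :=
      (isConnected_iff_connectedSpace.1 (isConnected_connectedComponent (x := x i)))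
    have hN := FEtFF.isNormalScheme_open hX (W i)
    haveI := CurveRR24.isIntegral_of_normal_connected ((W i).toScheme ↘ Spec (CommRingCat.of k)) hN
    have hn' := NumSec27.isNum_pullHom k (W i).ι rfl hL hnum
    rw [VarietyLib.pullHom_mk] at hn'
    obtain ⟨d, hd, ⟨e⟩⟩ := exists_pow_trivial_integral k hN p halg (PicLoc.isInvertible_pullback (W i).ι hL) hn'
    obtain ⟨e', -⟩ := AmpleLib.exists_pullPowIso (W i).ι hL d
    exact ⟨d, hd, exists_isGen_of_iso
      ((Scheme.Modules.restrictFunctorIsoPullback (W i).ι).app _ ≪≫ e' ≪≫ e)⟩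
  choose d hd s hs using hpc
  haveI := Fintype.ofFinite ι
  let D := ∏ i, d i
  have hD : 0 < D := Finset.prod_pos fun i _ => hd i
  have hgen : ∀ i, ∃ t : Γ(CohB1.tensorPow L D, W i), IsGen (CohB1.tensorPow L D) (W i) t := fun i => by
    obtain ⟨m, hm⟩ : d i ∣ D := Finset.dvd_prod_of_mem _ (Finset.mem_univ i)
    obtain ⟨e⟩ := nonempty_iso_of_mk_eq (hL := AmpleLib.isInvertible_tensorPow (AmpleLib.isInvertible_tensorPow hL (d i)) m)
      (hN := AmpleLib.isInvertible_tensorPow hL D) (by
        rw [InvCl.mk_tensorPow (AmpleLib.isInvertible_tensorPow hL (d i)), InvCl.mk_tensorPow hL, InvCl.mk_tensorPow hL,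
          ← pow_mul, ← hm])
    exact ⟨_, isGen_map_iso e (AmpleLib.isGen_powSec (hs i) m)⟩
  choose t ht using hgen
  have hcov : (⊤ : X.Opens) ≤ iSup W := fun y _ => Opens.mem_iSup.2 ⟨_, hmem y⟩
  let F : TopCat.Sheaf Ab X := ⟨(CohB1.tensorPow L D).presheaf, (CohB1.tensorPow L D).isSheaf⟩
  have hcompat : TopCat.Presheaf.IsCompatible F.1 W t := fun i j => by
    by_cases h : i = j
    · subst h; rfl
    · refine TopCat.Sheaf.eq_of_locally_eq' F (fun e : PEmpty.{u + 1} => ⊥) (W i ⊓ W j) (fun e => e.elim)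
        (fun y hy => (h (hdisj i j y hy.1 hy.2)).elim) _ _ (fun e => e.elim)
  obtain ⟨g, hg, -⟩ := TopCat.Sheaf.existsUnique_gluing' F W ⊤ (fun i => homOfLE le_top) hcov t hcompat
  refine ⟨D, hD, TwistLib.nonempty_iso_of_isGen_top (isGen_of_cover W (fun i => le_top) hcov (fun i => ?_) (s₀ := g))⟩
  have : resM (CohB1.tensorPow L D) le_top g = t i := hg i
  rw [this]
  exact ht i

end Groth.Agent.PicTau27
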